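import Groth.Agent.Ega41Adic.SplitInj
import Mathlib.RingTheory.Smooth.Locus
import Mathlib.RingTheory.LocalProperties.Projective
import Mathlib.RingTheory.Smooth.Basic
import Mathlib.RingTheory.Etale.Kaehler
import Mathlib.Algebra.Module.LocalizedModule.Exact
import Mathlib.LinearAlgebra.TensorProduct.Basic

/-! Formal smoothness of localizations of a quotient of a formally smooth algebra (Jacobian criterion). -/

universe u

namespace Groth.Ega41Jac

open Groth.Ega41Adic TensorProduct Algebra

variable {A C : Type u} [CommRing A] [CommRing C] [Algebra A C]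

theorem projective_of_leftInverse {R : Type*} [CommRing R] {M N P : Type*} [AddCommGroup M] [Module R M]
    [AddCommGroup N] [Module R N] [AddCommGroup P] [Module R P] [Module.Projective R N] (u : M →ₗ[R] N)
    (q : N →ₗ[R] P) (hq : Function.Surjective q) (hex : Function.Exact u q)
    (w : N →ₗ[R] M) (hw : w ∘ₗ u = LinearMap.id) : Module.Projective R P := by
  obtain ⟨s, hs⟩ : ∃ s : P →ₗ[R] N, q ∘ₗ s = LinearMap.id := by
    have hker : LinearMap.ker q ≤ LinearMap.ker (LinearMap.id - u ∘ₗ w) := fun x hx => by
      obtain ⟨m, rfl⟩ := (hex x).mp hx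
      simp [show w (u m) = m from LinearMap.congr_fun hw m]
    let e := q.quotKerEquivOfSurjective hq
    refine ⟨(LinearMap.ker q).liftQ _ hker ∘ₗ e.symm.toLinearMap, LinearMap.ext fun y => ?_⟩
    obtain ⟨x, rfl⟩ := hq y
    have hx : e.symm (q x) = Submodule.Quotient.mk x := e.injective (by rw [e.apply_symm_apply]; rfl)
    simp [hx, show q (u (w x)) = 0 from (hex _).mpr ⟨_, rfl⟩]
  exact Module.Projective.of_split s q hs

/-- The localized criterion. -/
theorem formallySmooth_iff_splitBy (P : Algebra.Extension.{u} A C) [FormallySmooth A P.Ring]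
    [Module.Finite C P.Cotangent] (S : Submonoid C) (C' : Type u) [CommRing C'] [Algebra C C'] [Algebra A C']
    [IsScalarTower A C C'] [IsLocalization S C'] :
    FormallySmooth A C' ↔ ∃ a ∈ S, SplitBy P.cotangentComplex a := by
  let e : C' ≃ₐ[C] Localization S := IsLocalization.algEquiv S C' (Localization S)
  rw [FormallySmooth.iff_of_equiv (e.restrictScalars A), ← leftInverse_localizedMap_iff,
    formallySmooth_iff]
  let uS := LocalizedModule.map S P.cotangentComplex
  let qS := LocalizedModule.map S P.toKaehler
  have hqS : Function.Surjective qS := LocalizedModule.map_surjective S _ P.toKaehler_surjective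
  have hex : Function.Exact uS qS := LocalizedModule.map_exact S _ _ P.exact_cotangentComplex_toKaehler
  let eH := (IsLocalizedModule.iso S ((H1Cotangent.map A A C (Localization S)) ∘ₗ
    (Algebra.Extension.equivH1CotangentOfFormallySmooth P).toLinearMap))
  let eΩ := (IsLocalizedModule.iso S (KaehlerDifferential.map A A C (Localization S))).extendScalarsOfIsLocalization
    S (Localization S)
  have hH1 : Subsingleton (H1Cotangent A (Localization S)) ↔ Function.Injective uS := by
    rw [← eH.subsingleton_congr]
    have hexH : Function.Exact (LocalizedModule.map S P.h1Cotangentι) uS :=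
      LocalizedModule.map_exact S _ _ (LinearMap.exact_subtype_ker_map P.cotangentComplex)
    have hinjH : Function.Injective (LocalizedModule.map S P.h1Cotangentι) :=
      LocalizedModule.map_injective S _ Algebra.Extension.h1Cotangentι_injective
    constructor
    · intro h
      rw [injective_iff_map_eq_zero]
      intro x hx
      obtain ⟨y, rfl⟩ := (hexH x).mp hx
      rw [Subsingleton.elim y 0, map_zero]
    · intro h
      refine subsingleton_of_forall_eq 0 fun y => hinjH (h ?_)
      rw [(hexH _).mpr ⟨y, rfl⟩, map_zero, map_zero]
  constructor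
  · rintro ⟨hproj, hsub⟩
    have hinj : Function.Injective uS := hH1.mp hsub
    haveI : Module.Projective (Localization S) (LocalizedModule S Ω[C⁄A]) := Module.Projective.of_equiv eΩ.symm
    obtain ⟨s, hs⟩ := Module.projective_lifting_property qS LinearMap.id hqS
    have hmem : ∀ x, x - s (qS x) ∈ LinearMap.range uS := fun x =>
      (hex _).mp (by rw [map_sub, show qS (s (qS x)) = qS x from LinearMap.congr_fun hs (qS x), sub_self])
    let e' := LinearEquiv.ofInjective uS hinj
    let w : _ →ₗ[Localization S] LinearMap.range uS :=
      LinearMap.codRestrict (LinearMap.range uS)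
        { toFun := fun x => x - s (qS x)
          map_add' := fun a b => by rw [map_add, map_add]; abel
          map_smul' := fun c a => by rw [map_smul, map_smul, RingHom.id_apply, smul_sub] } hmem
    refine ⟨(e'.symm.toLinearMap ∘ₗ w).restrictScalars C, LinearMap.ext fun m => ?_⟩
    apply e'.injective
    show e' (e'.symm (w (uS m))) = e' m
    rw [e'.apply_symm_apply]
    refine Subtype.ext ?_
    show uS m - s (qS (uS m)) = uS m
    rw [(hex _).mpr ⟨m, rfl⟩, map_zero]
    exact (sub_zero (uS m) :)
  · rintro ⟨w, hw⟩
    let w' := w.extendScalarsOfIsLocalization S (Localization S)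
    have hw' : w' ∘ₗ uS = LinearMap.id := LinearMap.ext fun x => LinearMap.congr_fun hw x
    haveI : Module.Projective (Localization S) (LocalizedModule S P.CotangentSpace) := inferInstance
    haveI := projective_of_leftInverse uS qS hqS hex w' hw'
    exact ⟨Module.Projective.of_equiv eΩ, hH1.mpr (Function.LeftInverse.injective fun x => LinearMap.congr_fun hw' x)⟩

variable {B : Type u} [CommRing B] [Algebra A B] [Algebra B C] [IsScalarTower A B C]

/-- The extension given by a surjection. -/
@[reducible] noncomputable def extOfSurjective (hsurj : Function.Surjective (algebraMap B C)) :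
    Algebra.Extension.{u} A C where
  Ring := B
  σ := Function.surjInv hsurj
  algebraMap_σ := Function.surjInv_eq hsurj

theorem finite_cotangent (hsurj : Function.Surjective (algebraMap B C))
    [h : Module.Finite B (RingHom.ker (algebraMap B C)).Cotangent] :
    Module.Finite C (extOfSurjective (A := A) hsurj).Cotangent := by
  let P := extOfSurjective (A := A) hsurj
  haveI : Module.Finite P.Ring P.Cotangent :=
    Module.Finite.equiv (R := B) (M := P.ker.Cotangent) (P.cotangentEquivCotangentKer).symm
  exact Module.Finite.of_restrictScalars_finite P.Ring _ _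

theorem formallySmooth_iff_one_mem (P : Algebra.Extension.{u} A C) [FormallySmooth A P.Ring] :
    FormallySmooth A C ↔ SplitBy P.cotangentComplex 1 := by
  rw [P.formallySmooth_iff_split_injection, leftInverse_iff_one]

/-- Residue field criterion, with tensor products over the covering ring. -/
theorem injective_lTensor_iff (hsurj : Function.Surjective (algebraMap B C)) (K : Type u) [Field K]
    [Algebra C K] [Algebra B K] [IsScalarTower B C K] :
    Function.Injective ((extOfSurjective (A := A) hsurj).cotangentComplex.lTensor K) ↔
      Function.Injective ((KaehlerDifferential.kerCotangentToTensor A B C).lTensor K) := by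
  let P := extOfSurjective (A := A) hsurj
  haveI : CompatibleSMul B C K P.Cotangent := ⟨fun c k m => by
    obtain ⟨b, rfl⟩ := hsurj c
    rw [algebraMap_smul, show (algebraMap B C b) • m = b • m from algebraMap_smul C b m, smul_tmul]⟩
  haveI : CompatibleSMul B C K P.CotangentSpace := ⟨fun c k m => by
    obtain ⟨b, rfl⟩ := hsurj c
    rw [algebraMap_smul, algebraMap_smul, smul_tmul]⟩
  let e₁ : K ⊗[C] P.Cotangent ≃ₗ[B] K ⊗[B] P.Cotangent :=
    (TensorProduct.equivOfCompatibleSMul B C B K P.Cotangent)
  let e₁' : K ⊗[C] P.Cotangent ≃ₗ[B] K ⊗[B] (RingHom.ker (algebraMap B C)).Cotangent :=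
    e₁ ≪≫ₗ (P.cotangentEquivCotangentKer.lTensor K)
  let e₂ : K ⊗[C] P.CotangentSpace ≃ₗ[B] K ⊗[B] P.CotangentSpace :=
    (TensorProduct.equivOfCompatibleSMul B C B K P.CotangentSpace)
  have hcomm : ∀ x, (KaehlerDifferential.kerCotangentToTensor A B C).lTensor K (e₁' x) =
      e₂ (P.cotangentComplex.lTensor K x) := by
    intro x
    induction x with
    | zero => simp
    | add a b ha hb => simp only [map_add, ha, hb]
    | tmul k m =>
        obtain ⟨m, rfl⟩ := Algebra.Extension.Cotangent.mk_surjective m
        rfl
  constructor
  · intro h x y hxy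
    obtain ⟨x, rfl⟩ := e₁'.surjective x
    obtain ⟨y, rfl⟩ := e₁'.surjective y
    rw [hcomm, hcomm] at hxy
    exact congrArg e₁' (h (e₂.injective hxy))
  · intro h x y hxy
    exact e₁'.injective (h (by rw [hcomm, hcomm, hxy]))

end Groth.Ega41Jac
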