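import Mathlib

/-! The localisation of a quotient as a quotient of the localisation, over a base. -/

universe u

namespace Groth.Ega41Jac

/-- `A_p → (A/q)_p` is surjective with kernel `qA_p`. -/
theorem exists_localizationQuotient {k A : Type u} [CommRing k] [CommRing A] [Algebra k A] (q p : Ideal A) (hqp : q ≤ p)
    [p.IsPrime] (P' : Ideal (A ⧸ q)) [P'.IsPrime] (hP' : P' = p.map (Ideal.Quotient.mk q)) :
    ∃ θ : Localization.AtPrime p →ₐ[k] Localization.AtPrime P', Function.Surjective θ ∧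
      RingHom.ker θ.toRingHom = q.map (algebraMap A (Localization.AtPrime p)) := by
  have hmem : ∀ a, Ideal.Quotient.mk q a ∈ P' ↔ a ∈ p := fun a => by
    rw [hP', ← Ideal.mem_comap, Ideal.comap_map_of_surjective _ Ideal.Quotient.mk_surjective]
    refine ⟨fun h => ?_, fun h => Ideal.mem_sup_left h⟩
    rw [← RingHom.ker_eq_comap_bot, Ideal.mk_ker, sup_eq_left.mpr hqp] at h
    exact h
  let f : A →ₐ[k] Localization.AtPrime P' :=
    (IsScalarTower.toAlgHom k (A ⧸ q) (Localization.AtPrime P')).comp (Ideal.Quotient.mkₐ k q)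
  have hf : ∀ s : p.primeCompl, IsUnit (f s) := fun s =>
    IsLocalization.map_units (Localization.AtPrime P')
      (⟨Ideal.Quotient.mk q s, fun h => s.2 ((hmem s).mp h)⟩ : P'.primeCompl)
  let θ : Localization.AtPrime p →ₐ[k] Localization.AtPrime P' := IsLocalization.liftAlgHom (M := p.primeCompl) hf
  have hθ : ∀ a, θ (algebraMap A _ a) = algebraMap (A ⧸ q) _ (Ideal.Quotient.mk q a) := fun a => by
    rw [IsLocalization.liftAlgHom_apply, IsLocalization.lift_eq]; rfl
  refine ⟨θ, fun y => ?_, le_antisymm (fun x hx => ?_) (Ideal.map_le_iff_le_comap.mpr fun a ha => ?_)⟩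
  · obtain ⟨b, t, rfl⟩ := IsLocalization.exists_mk'_eq P'.primeCompl y
    obtain ⟨a, rfl⟩ := Ideal.Quotient.mk_surjective b
    obtain ⟨s, hs⟩ := Ideal.Quotient.mk_surjective t.1
    have hsp : s ∈ p.primeCompl := fun h => t.2 (hs ▸ (hmem s).mpr h)
    refine ⟨IsLocalization.mk' _ a (⟨s, hsp⟩ : p.primeCompl), ?_⟩
    rw [IsLocalization.eq_mk'_iff_mul_eq, ← hs, ← hθ, ← map_mul, IsLocalization.mk'_spec, hθ]
  · obtain ⟨a, s, rfl⟩ := IsLocalization.exists_mk'_eq p.primeCompl x
    have h1 : algebraMap (A ⧸ q) (Localization.AtPrime P') (Ideal.Quotient.mk q a) = 0 := by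
      rw [← hθ, ← IsLocalization.mk'_spec (Localization.AtPrime p) a s, map_mul, show θ _ = 0 from hx, zero_mul]
    obtain ⟨t, ht⟩ := (IsLocalization.map_eq_zero_iff P'.primeCompl _ _).mp h1
    obtain ⟨t₀, ht₀⟩ := Ideal.Quotient.mk_surjective t.1
    have htp : t₀ ∈ p.primeCompl := fun h => t.2 (ht₀ ▸ (hmem t₀).mpr h)
    rw [← ht₀, ← map_mul, Ideal.Quotient.eq_zero_iff_mem] at ht
    rw [IsLocalization.mk'_mem_map_algebraMap_iff]
    exact ⟨t₀, htp, ht⟩
  · show θ (algebraMap A _ a) = 0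
    rw [hθ, Ideal.Quotient.eq_zero_iff_mem.mpr ha, map_zero]

end Groth.Ega41Jac
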