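import Groth.Agent.Ega41Jac.FrobeniusExt
import Groth.Agent.Ega41Jac.QuotientLocalization
import Groth.Agent.Ega41Adic.RegularOfSmooth
import Groth.Agent.Ega41Exist.PRadicalConv
import Groth.Agent.Ega41Sep.Separable
import Groth.Agent.S4512

/-! Nagata's Jacobian criterion for formal smoothness. -/

universe u

open IsLocalRing EGA41

namespace Groth.Ega41Jac

/-- Formal smoothness over a separable subextension passes to the base field. -/
theorem isAdicFormallySmooth_of_separable {k K₀ A : Type u} [Field k] [Field K₀] [Algebra k K₀]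
    [Algebra.IsGeometricallyReduced k K₀] [CommRing A] [IsLocalRing A] [Algebra k A] [Algebra K₀ A]
    [IsScalarTower k K₀ A] (hA : CAlgX.IsAdicFormallySmooth K₀ A (maximalIdeal A)) :
    CAlgX.IsAdicFormallySmooth k A (maximalIdeal A) := by
  haveI : Algebra.FormallySmooth k K₀ :=
    (Groth.Ega41Sep.formallySmooth_iff_isGeometricallyReduced k K₀).mpr inferInstance
  exact Groth.Ega41Adic.isAdicFormallySmooth_iff.mpr (Groth.Ega41Adic.trans'
    ⟨1, by rw [pow_one, Ideal.map_bot]; exact bot_le⟩ Groth.Ega41Adic.isFormallySmoothAdic_bot_of_formallySmooth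
    (Groth.Ega41Adic.isAdicFormallySmooth_iff.mp hA))

variable {k A : Type u} [Field k] [CommRing A] [IsLocalRing A] [IsNoetherianRing A] [Algebra k A]

/-- Localisations of formally smooth local algebras are formally smooth. -/
theorem isAdicFormallySmooth_localization (hA : CAlgX.IsAdicFormallySmooth k A (maximalIdeal A)) (𝔭 : Ideal A)
    [𝔭.IsPrime] :
    CAlgX.IsAdicFormallySmooth k (Localization.AtPrime 𝔭) (maximalIdeal (Localization.AtPrime 𝔭)) := by
  obtain ⟨c, _⟩ := ExpChar.exists k
  refine (Groth.Ega41Exist.isAdicFormallySmooth_iff_regular_baseChange c).mpr fun k' _ _ hfin _ => ?_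
  exact Groth.Calg4.isGeometricallyRegular_localization 𝔭.primeCompl (Localization.AtPrime 𝔭)
    (Groth.Agent.S4512.result hA).1 k' hfin

/-- Equations with invertible Jacobian give formal smoothness. -/
theorem isAdicFormallySmooth_of_equations (hA : CAlgX.IsAdicFormallySmooth k A (maximalIdeal A)) (q 𝔭 : Ideal A)
    [𝔭.IsPrime] (hq : q ≤ 𝔭) (P' : Ideal (A ⧸ q)) [P'.IsPrime] (hP' : P' = 𝔭.map (Ideal.Quotient.mk q)) {m : ℕ}
    (D : Fin m → Derivation k A A) (f : Fin m → A)
    (hgen : q.map (algebraMap A (Localization.AtPrime 𝔭)) =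
      Ideal.span (Set.range fun i => algebraMap A (Localization.AtPrime 𝔭) (f i)))
    (hdet : Matrix.det (Matrix.of fun i j => D i (f j)) ∉ 𝔭) :
    CAlgX.IsAdicFormallySmooth k (Localization.AtPrime P') (maximalIdeal (Localization.AtPrime P')) := by
  obtain ⟨θ, hθ, hθker⟩ := exists_localizationQuotient (k := k) q 𝔭 hq P' hP'
  exact isAdicFormallySmooth_of_det 𝔭.primeCompl θ hθ (isAdicFormallySmooth_localization hA 𝔭) f D
    (hθker.trans hgen) (IsLocalization.map_units (Localization.AtPrime 𝔭) (⟨_, hdet⟩ : 𝔭.primeCompl))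

/-- Formally smooth localisations of quotients have equations with invertible Jacobian. -/
theorem exists_equations (p : ℕ) [ExpChar k p] (hk : p = 1 ∨ Module.Finite (frobenius k p).fieldRange k)
    [IsAdicComplete (maximalIdeal A) A] (hA : CAlgX.IsAdicFormallySmooth k A (maximalIdeal A)) (q 𝔭 : Ideal A)
    [𝔭.IsPrime] (hq : q ≤ 𝔭) (P' : Ideal (A ⧸ q)) [P'.IsPrime] (hP' : P' = 𝔭.map (Ideal.Quotient.mk q))
    (hB : CAlgX.IsAdicFormallySmooth k (Localization.AtPrime P') (maximalIdeal (Localization.AtPrime P'))) :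
    ∃ (m : ℕ) (D : Fin m → Derivation k A A) (f : Fin m → A), (∀ i, f i ∈ q) ∧
      q.map (algebraMap A (Localization.AtPrime 𝔭)) =
        Ideal.span (Set.range fun i => algebraMap A (Localization.AtPrime 𝔭) (f i)) ∧
      Matrix.det (Matrix.of fun i j => D i (f j)) ∉ 𝔭 := by
  classical
  haveI : IsRegularLocalRing A := Groth.Ega41Adic.isRegularLocalRing_of_isAdicFormallySmooth hA
  haveI : IsRegularRing A := Groth.Ega4b.isRegularRing_of_isRegularLocalRing A
  haveI : IsRegularLocalRing (Localization.AtPrime 𝔭) :=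
    Groth.Ega41Adic.isRegularLocalRing_of_isAdicFormallySmooth (isAdicFormallySmooth_localization hA 𝔭)
  obtain ⟨θ, hθ, hθker⟩ := exists_localizationQuotient (k := k) q 𝔭 hq P' hP'
  let eB := (RingHom.quotientKerEquivOfSurjective (f := θ.toRingHom) hθ).symm.trans (Ideal.quotEquivOfEq hθker)
  haveI : IsRegularLocalRing (Localization.AtPrime P') :=
    Groth.Ega41Adic.isRegularLocalRing_of_isAdicFormallySmooth hB
  haveI : IsRegularLocalRing (Localization.AtPrime 𝔭 ⧸ q.map (algebraMap A (Localization.AtPrime 𝔭))) :=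
    IsRegularLocalRing.of_ringEquiv (R := Localization.AtPrime P') eB
  obtain ⟨m, g, hg, hgen, hdim⟩ := exists_regular_generators 𝔭 q (L := Localization.AtPrime 𝔭)
  suffices h : ∃ (ι : Type u) (_ : Fintype ι) (D : ι → Derivation k A A),
      LinearIndependent (FractionRing (A ⧸ 𝔭)) fun j i =>
        algebraMap (A ⧸ 𝔭) (FractionRing (A ⧸ 𝔭)) (Ideal.Quotient.mk 𝔭 (D i (g j))) by
    obtain ⟨ι, _, D, hind⟩ := h
    obtain ⟨D', hdet⟩ := exists_det_of_linearIndependent (Ideal.Quotient.mk 𝔭) Ideal.Quotient.mk_surjective D g hind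
    exact ⟨m, D', g, hg, hgen, fun h => hdet (Ideal.Quotient.eq_zero_iff_mem.mpr h)⟩
  cases ‹ExpChar k p› with
  | zero =>
    haveI : Algebra.FormallySmooth k (ResidueField A) :=
      (Groth.Ega41Sep.formallySmooth_iff_isGeometricallyReduced k _).mpr
        (Groth.Ega41Sep.isGeometricallyReduced_charZero k _)
    obtain ⟨σ, hσ⟩ := Algebra.FormallySmooth.exists_mkₐ_comp_eq_of_isAdicComplete
      (R := k) (I := maximalIdeal A) (AlgHom.id k (ResidueField A))
    letI : Algebra (ResidueField A) A := σ.toRingHom.toAlgebra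
    have hres : ∀ x, residue A (σ x) = x := fun x => AlgHom.congr_fun hσ x
    obtain ⟨n, ⟨e⟩⟩ := Groth.Calg5.CohenStructure.exists_algEquiv_mvPowerSeries A (ResidueField A)
      ⟨fun x y h => by rw [← hres x, ← hres y]; exact h, fun x => ⟨x, hres x⟩⟩
    haveI : CharZero (ResidueField A) := charZero_of_injective_algebraMap (algebraMap k _).injective
    obtain ⟨t, D, f, hf, hht, hind⟩ := exists_rank_charZero (k := k) e.symm.toRingEquiv (fun c => by
      show e.symm (algebraMap (ResidueField A) _ (algebraMap k (ResidueField A) c)) = _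
      rw [AlgEquiv.commutes]
      exact σ.commutes c) 𝔭
    haveI : (RingHom.ker (Ideal.Quotient.mk 𝔭)).IsPrime := by rw [Ideal.mk_ker]; infer_instance
    haveI : IsLocalization.AtPrime (Localization.AtPrime 𝔭) (RingHom.ker (Ideal.Quotient.mk 𝔭)) := by
      simp only [Ideal.mk_ker]; infer_instance
    haveI : IsRegularLocalRing (Localization.AtPrime 𝔭 ⧸
        Ideal.span (Set.range fun i => algebraMap A (Localization.AtPrime 𝔭) (g i))) := by
      rw [← hgen]; infer_instance
    exact ⟨_, inferInstance, D, linearIndependent_of_regular (Ideal.Quotient.mk 𝔭) Ideal.Quotient.mk_surjective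
      (Localization.AtPrime 𝔭) D f (fun i => Ideal.Quotient.eq_zero_iff_mem.mpr (hf i)) hind
      (by rw [Ideal.mk_ker]; exact hht) g (fun i => Ideal.Quotient.eq_zero_iff_mem.mpr (hq (hg i)))
      (by rw [← hgen]; exact hdim)⟩
  | prime hp =>
    haveI : Fact p.Prime := ⟨hp⟩
    refine exists_independent_charP p (hk.resolve_left hp.ne_one) (Groth.Agent.S4512.result hA).1 𝔭 θ hθ
      (Groth.Agent.S4512.result hB).1 g (fun i => hq (hg i)) (hθker.trans hgen) ?_
    rw [ringKrullDim_eq_of_ringEquiv eB]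
    exact hdim

end Groth.Ega41Jac
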