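import Groth.Agent.Ega4Algebra2.JacobianBound
import Groth.Prelude.Def_CAlgX
import Groth.Agent.Ega41Sep.PBasis
import Mathlib.LinearAlgebra.Matrix.Determinant.Basic
import Mathlib.RingTheory.Ideal.Operations
import Mathlib.RingTheory.Localization.AtPrime.Basic

/-! Jacobian matrices of derivations over a base. -/

universe u v

namespace Groth.Ega41Jac

open IsLocalRing Groth.Ega4b.Jac

variable {k : Type v} {P R : Type u} [CommRing k] [CommRing P] [Algebra k P] [CommRing R] [IsDomain R]

/-- Rank of the Jacobian of the equations from a bound on the derivations of the quotient. -/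
theorem exists_rank_of_bound (π : P →+* R)
    (hπ : Function.Surjective π) {ι κ : Type u} [Fintype ι] [Fintype κ] (D : ι → Derivation k P P) (v : κ → P)
    {h : ℕ} (he : h + Fintype.card κ ≤ Fintype.card ι)
    (hkill : ∀ (δ : IDer R) (w : ι → R), (∀ x, δ (π x) = ∑ i, w i * π (D i x)) →
      (∀ j, δ (π (v j)) = 0) → w = 0) :
    ∃ f : Fin h → P, (∀ i, π (f i) = 0) ∧
      LinearIndependent (FractionRing R) (fun j => fun i => algebraMap R (FractionRing R) (π (D i (f j)))) := by
  classical
  let K := FractionRing R
  let vec : P → ι → K := fun x i => algebraMap R K (π (D i x))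
  let V : Submodule K (ι → K) := Submodule.span K (vec '' {x | π x = 0})
  let U : Submodule K (ι → K) := Submodule.span K (Set.range (vec ∘ v))
  have hinj := IsFractionRing.injective R K
  have htop : V ⊔ U = ⊤ := by
    by_contra hne
    obtain ⟨φ, hφ0, hφ⟩ := Submodule.exists_dual_map_eq_bot_of_lt_top (lt_top_iff_ne_top.2 hne) inferInstance
    have hker : ∀ y ∈ V ⊔ U, φ y = 0 := fun y hy => by
      have : φ y ∈ (V ⊔ U).map φ := ⟨y, hy, rfl⟩
      rwa [hφ, Submodule.mem_bot] at this
    let w0 : ι → K := fun i => φ (Pi.single i 1)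
    have hφeq : ∀ y : ι → K, φ y = ∑ i, y i * w0 i := fun y => by
      conv_lhs => rw [pi_eq_sum_univ' y]
      simp [w0, map_sum]
    obtain ⟨s, hs⟩ := IsLocalization.exist_integer_multiples (nonZeroDivisors R) (Finset.univ) w0
    choose w hw using fun i => hs i (Finset.mem_univ i)
    have hval : ∀ x, algebraMap R K (∑ i, w i * π (D i x)) = algebraMap R K (s : R) * φ (vec x) := fun x => by
      rw [hφeq, map_sum, Finset.mul_sum]
      refine Finset.sum_congr rfl fun i _ => ?_
      rw [map_mul, hw i, Algebra.smul_def]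
      show _ = _ * (algebraMap R K (π (D i x)) * w0 i)
      ring
    let g : P → R := fun x => ∑ i, w i * π (D i x)
    have hg0 : ∀ x, π x = 0 → g x = 0 := fun x hx => hinj (by
      rw [map_zero, hval, hker _ (Submodule.mem_sup_left (Submodule.subset_span (Set.mem_image_of_mem vec hx))), mul_zero])
    have hgadd : ∀ x y, g (x + y) = g x + g y := fun x y => by
      simp only [g, map_add, mul_add, Finset.sum_add_distrib]
    let lift := Function.surjInv hπ
    have hlift : ∀ r, π (lift r) = r := Function.surjInv_eq hπ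
    have hgπ : ∀ x, g (lift (π x)) = g x := fun x => by
      have h1 := hg0 (lift (π x) - x) (by rw [map_sub, hlift, sub_self])
      have h2 := hgadd (lift (π x) - x) x
      rwa [sub_add_cancel, h1, zero_add] at h2
    have hadd : ∀ a b, g (lift (a + b)) = g (lift a) + g (lift b) := fun a b => by
      rw [← hgadd, ← hgπ (lift a + lift b), map_add, hlift, hlift]
    let δ : IDer R := Derivation.mk'
      (AddMonoidHom.toIntLinearMap (AddMonoidHom.mk' (fun r => g (lift r)) hadd)) fun a b => by
        show g (lift (a * b)) = a • g (lift b) + b • g (lift a)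
        rw [← hlift a, ← hlift b, ← map_mul, hgπ, hgπ, hgπ, hlift, hlift, smul_eq_mul, smul_eq_mul,
          Finset.mul_sum, Finset.mul_sum, ← Finset.sum_add_distrib]
        refine Finset.sum_congr rfl fun i _ => ?_
        rw [(D i).leibniz, smul_eq_mul, smul_eq_mul, map_add, map_mul, map_mul, hlift, hlift]
        ring
    have hδ : ∀ x, δ (π x) = ∑ i, w i * π (D i x) := fun x => hgπ x
    have hw0 := hkill δ w hδ fun j => hinj (by
      rw [map_zero, hδ, hval, hker (vec (v j)) (Submodule.mem_sup_right (Submodule.subset_span ⟨j, rfl⟩)), mul_zero])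
    refine hφ0 (LinearMap.ext fun y => ?_)
    rw [hφeq, LinearMap.zero_apply]
    refine Finset.sum_eq_zero fun i _ => ?_
    have h1 := hw i
    rw [hw0, Pi.zero_apply, map_zero, Algebra.smul_def, zero_eq_mul] at h1
    rw [h1.resolve_left ((map_ne_zero_iff _ hinj).2 (nonZeroDivisors.ne_zero s.2)), mul_zero]
  have hrank : h ≤ Module.finrank K V := by
    have h1 : Module.finrank K U ≤ Fintype.card κ := finrank_range_le_card _
    have h2 := Submodule.finrank_add_le_finrank_add_finrank V U
    rw [htop, finrank_top, Module.finrank_pi] at h2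
    omega
  obtain ⟨b, hbsub, hbspan, hbind⟩ := exists_linearIndependent K (vec '' {x | π x = 0})
  haveI : Fintype b := (hbind.setFinite).fintype
  have hcard : h ≤ Fintype.card b := by
    rw [show V = Submodule.span K b from hbspan.symm] at hrank
    exact hrank.trans (by rw [finrank_span_set_eq_card hbind, Set.toFinset_card])
  let emb : Fin h ↪ b := (Fin.castLEEmb hcard).trans (Fintype.equivFin b).symm.toEmbedding
  choose f hf hfvec using fun i => hbsub (emb i).2
  have hind : LinearIndependent K fun i => vec (f i) := by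
    have := hbind.comp emb emb.injective
    simpa [Function.comp_def, hfvec] using this
  exact ⟨f, hf, hind⟩

/-- Independent Jacobian vectors give derivations with nonvanishing determinant. -/
theorem exists_det_of_linearIndependent (π : P →+* R) (hπ : Function.Surjective π) {ι : Type*} [Fintype ι]
    (D : ι → Derivation k P P) {h : ℕ} (f : Fin h → P)
    (hind : LinearIndependent (FractionRing R) (fun j => fun i => algebraMap R (FractionRing R) (π (D i (f j))))) :
    ∃ D' : Fin h → Derivation k P P, π (Matrix.of fun i j => D' i (f j)).det ≠ 0 := by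
  classical
  let K := FractionRing R
  let vec : P → ι → K := fun x i => algebraMap R K (π (D i x))
  have hinj := IsFractionRing.injective R K
  obtain ⟨W, hW⟩ := LinearMap.exists_leftInverse_of_injective (Fintype.linearCombination K fun i => vec (f i))
    (LinearMap.ker_eq_bot.2 hind.fintypeLinearCombination_injective)
  let A : Fin h × ι → K := fun x => W (Pi.single x.2 1) x.1
  obtain ⟨s, hs⟩ := IsLocalization.exist_integer_multiples (nonZeroDivisors R) (Finset.univ) A
  choose A' hA' using fun x => hs x (Finset.mem_univ x)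
  choose c hc using fun x => hπ (A' x)
  refine ⟨fun i => ∑ l, c (i, l) • D l, ?_⟩
  have hentry : ∀ i j, algebraMap R K (π ((∑ l, c (i, l) • D l : Derivation k P P) (f j))) =
      algebraMap R K (s : R) * (if i = j then 1 else 0) := by
    intro i j
    have h1 : W (vec (f j)) i = if i = j then 1 else 0 := by
      have := congrArg (fun F => F (Pi.single j 1) i) hW
      simp only [LinearMap.comp_apply, LinearMap.id_apply, Fintype.linearCombination_apply_single,
        one_smul, Pi.single_apply] at this
      exact this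
    rw [← h1, show (∑ l, c (i, l) • D l : Derivation k P P) (f j) = ∑ l, (c (i, l) • D l : Derivation k P P) (f j) from
      (congrFun (map_sum (Derivation.coeFnAddMonoidHom (R := k) (A := P) (M := P)) (fun l => c (i, l) • D l) Finset.univ) (f j)).trans (Finset.sum_apply _ _ _), map_sum, map_sum]
    conv_rhs => rw [pi_eq_sum_univ' (vec (f j)), map_sum, Finset.sum_apply, Finset.mul_sum]
    refine Finset.sum_congr rfl fun l _ => ?_
    rw [Derivation.smul_apply, smul_eq_mul, map_mul, map_mul, hc, hA', Algebra.smul_def, map_smul, Pi.smul_apply,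
      smul_eq_mul]
    show _ * W (Pi.single l 1) i * vec (f j) l = _
    ring
  rw [RingHom.map_det, ← map_ne_zero_iff _ hinj, RingHom.map_det]
  have hM : (algebraMap R K).mapMatrix (π.mapMatrix (Matrix.of fun i j => (∑ l, c (i, l) • D l : Derivation k P P) (f j))) =
      algebraMap R K (s : R) • (1 : Matrix (Fin h) (Fin h) K) := by
    ext i j
    simp only [RingHom.mapMatrix_apply, Matrix.map_apply, Matrix.of_apply, Matrix.smul_apply, Matrix.one_apply,
      smul_eq_mul]
    exact hentry i j
  rw [hM, Matrix.det_smul, Matrix.det_one, mul_one]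
  exact pow_ne_zero _ ((map_ne_zero_iff _ hinj).2 (nonZeroDivisors.ne_zero s.2))

/-- A nonvanishing Jacobian on generators makes a quotient formally smooth. -/
theorem isAdicFormallySmooth_of_det {k A B L : Type u} [Field k] [CommRing A] [Algebra k A] [CommRing L]
    [IsLocalRing L] [Algebra A L] [Algebra k L] [IsScalarTower k A L] (M : Submonoid A) [IsLocalization M L]
    [CommRing B] [IsLocalRing B] [Algebra k B] (θ : L →ₐ[k] B) (hθ : Function.Surjective θ)
    (hL : CAlgX.IsAdicFormallySmooth k L (maximalIdeal L)) {m : ℕ} (f : Fin m → A) (D : Fin m → Derivation k A A)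
    (hker : RingHom.ker θ.toRingHom = Ideal.span (Set.range fun i => algebraMap A L (f i)))
    (hdet : IsUnit (algebraMap A L (Matrix.of fun i j => D i (f j)).det)) :
    CAlgX.IsAdicFormallySmooth k B (maximalIdeal B) := by
  classical
  haveI : IsLocalHom θ.toRingHom := hθ.isLocalHom
  intro C _ _ J hJ u ⟨N, hN⟩
  obtain ⟨v, hv⟩ := hL C J hJ (u.comp θ) ⟨N, fun x hx => hN _ (by
    have := Ideal.mem_map_of_mem θ.toRingHom hx
    rw [Ideal.map_pow] at this
    refine Ideal.pow_right_mono (Ideal.map_le_iff_le_comap.mpr fun y hy => ?_) N this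
    exact (mem_maximalIdeal _).mpr fun hu => (mem_maximalIdeal _).mp hy ((isUnit_map_iff θ.toRingHom y).mp hu))⟩
  have hvu : ∀ x, Ideal.Quotient.mk J (v x) = u (θ x) := fun x => AlgHom.congr_fun hv x
  let φ : A →ₐ[k] C := v.comp (IsScalarTower.toAlgHom k A L)
  have hb : ∀ l, φ (f l) ∈ J := fun l => by
    rw [← Ideal.Quotient.eq_zero_iff_mem]
    show Ideal.Quotient.mk J (v (algebraMap A L (f l))) = 0
    have hz : θ (algebraMap A L (f l)) = 0 :=
      RingHom.mem_ker.mp (hker ▸ Ideal.subset_span ⟨l, rfl⟩ : algebraMap A L (f l) ∈ RingHom.ker θ.toRingHom)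
    rw [hvu, hz, map_zero]
  let Md : Matrix (Fin m) (Fin m) C := φ.toRingHom.mapMatrix (Matrix.of fun i j => D i (f j))
  have hMd : IsUnit Md.det := by
    rw [show Md.det = φ (Matrix.of fun i j => D i (f j)).det from (RingHom.map_det φ.toRingHom _).symm]
    exact hdet.map v
  let c : Fin m → C := Matrix.vecMul (fun l => φ (f l)) Md⁻¹
  have hc : ∀ j, c j ∈ J := fun j => by
    simp only [c, Matrix.vecMul, dotProduct]
    exact J.sum_mem fun l _ => J.mul_mem_right _ (hb l)
  have hcM : ∀ l, ∑ j, c j * φ (D j (f l)) = φ (f l) := fun l => by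
    have : Matrix.vecMul c Md = fun l => φ (f l) := by
      rw [Matrix.vecMul_vecMul, Matrix.nonsing_inv_mul _ hMd, Matrix.vecMul_one]
    exact congrFun this l
  have hJJ : ∀ x ∈ J, ∀ y ∈ J, x * y = 0 := fun x hx y hy => by
    have := Ideal.mul_mem_mul hx hy
    rwa [← sq, hJ, Ideal.mem_bot] at this
  let δ : A → C := fun a => ∑ j, c j * φ (D j a)
  have hδJ : ∀ a, δ a ∈ J := fun a => J.sum_mem fun j _ => J.mul_mem_right _ (hc j)
  have hδmul : ∀ a b, δ (a * b) = φ a * δ b + φ b * δ a := fun a b => by
    simp only [δ, Derivation.leibniz, smul_eq_mul, map_add, map_mul, Finset.mul_sum, ← Finset.sum_add_distrib]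
    exact Finset.sum_congr rfl fun j _ => by ring
  let w : A →ₐ[k] C :=
    { toFun := fun a => φ a - δ a
      map_one' := by simp [δ]
      map_zero' := by simp [δ]
      map_add' := fun a b => by simp [δ, mul_add, Finset.sum_add_distrib]; abel
      map_mul' := fun a b => by
        rw [hδmul, map_mul]
        linear_combination -(hJJ _ (hδJ a) _ (hδJ b))
      commutes' := fun r => by simp [δ] }
  have hwM : ∀ s : M, IsUnit (w s) := fun s => by
    have h1 : IsUnit (φ s) := (IsLocalization.map_units L s).map v
    obtain ⟨i, hi⟩ := h1.exists_right_inv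
    refine IsUnit.of_mul_eq_one (i * (1 + i * δ s)) ?_
    show (φ s - δ s) * _ = 1
    linear_combination hi + (i * δ s) * hi - i * i * (hJJ _ (hδJ s) _ (hδJ s))
  let χ₀ : L →ₐ[k] C := IsLocalization.liftAlgHom (M := M) hwM
  have hχ₀ : ∀ a, χ₀ (algebraMap A L a) = w a := fun a => by
    rw [IsLocalization.liftAlgHom_apply, IsLocalization.lift_eq]; rfl
  have hk0 : RingHom.ker θ.toRingHom ≤ RingHom.ker χ₀.toRingHom := by
    rw [hker, Ideal.span_le]
    rintro _ ⟨l, rfl⟩
    show χ₀ (algebraMap A L (f l)) = 0
    rw [hχ₀]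
    show φ (f l) - ∑ j, c j * φ (D j (f l)) = 0
    rw [hcM, sub_self]
  let χr := RingHom.liftOfSurjective θ.toRingHom hθ ⟨χ₀.toRingHom, hk0⟩
  have hχr : ∀ x, χr (θ x) = χ₀ x := fun x => RingHom.liftOfRightInverse_comp_apply _ _ _ _ x
  have hcomm : ∀ r, χr (algebraMap k B r) = algebraMap k C r := fun r => by
    rw [← θ.commutes, hχr, χ₀.commutes]
  refine ⟨{ χr with commutes' := hcomm }, AlgHom.ext fun x => ?_⟩
  obtain ⟨x, rfl⟩ := hθ x
  show Ideal.Quotient.mk J (χr (θ x)) = u (θ x)
  rw [hχr]
  have hres : ((Ideal.Quotient.mk J).comp χ₀.toRingHom) = u.toRingHom.comp θ.toRingHom := by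
    refine IsLocalization.ringHom_ext M (RingHom.ext fun a => ?_)
    show Ideal.Quotient.mk J (χ₀ (algebraMap A L a)) = u (θ (algebraMap A L a))
    rw [hχ₀, ← hvu]
    show Ideal.Quotient.mk J (φ a - δ a) = _
    rw [map_sub, Ideal.Quotient.eq_zero_iff_mem.mpr (hδJ a), sub_zero]
    rfl
  exact RingHom.congr_fun hres x

end Groth.Ega41Jac
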