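import Groth.Agent.Ega41Jac.DerivationMatrix
import Groth.Agent.Ega4Algebra2.GRing
import Groth.Agent.Ega4Algebra2.RegularQuotient

/-! Equations of regular quotients have independent Jacobian vectors. -/

universe u v

namespace Groth.Ega41Jac

open IsLocalRing Groth.Ega4b Groth.Ega4b.Jac

/-- Regular quotients of a regular local ring are cut out by `dim L - dim` many equations from any generating set. -/
theorem exists_regular_generators {A L : Type u} [CommRing A] [CommRing L] [Algebra A L] (𝔭 : Ideal A) [𝔭.IsPrime]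
    [IsLocalization.AtPrime L 𝔭] [IsRegularLocalRing L] (q : Ideal A)
    [IsRegularLocalRing (L ⧸ q.map (algebraMap A L))] :
    ∃ (m : ℕ) (g : Fin m → A), (∀ i, g i ∈ q) ∧
      q.map (algebraMap A L) = Ideal.span (Set.range fun i => algebraMap A L (g i)) ∧
      ringKrullDim (L ⧸ q.map (algebraMap A L)) + m ≤ ringKrullDim L := by
  classical
  set J := q.map (algebraMap A L) with hJ
  obtain ⟨rs, hrs, hmem, hspan⟩ := exists_regularSeq_of_regular_quotient L J
  have hreg : RingTheory.Sequence.IsRegular L rs := by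
    refine ⟨hrs, ?_⟩
    rw [smul_eq_mul, Ideal.mul_top]
    intro htop
    exact (maximalIdeal.isMaximal L).ne_top (top_le_iff.mp (htop ▸ Ideal.span_le.mpr fun r hr => hmem r hr))
  have hrJ : ∀ i : Fin rs.length, rs[i] ∈ q.map (algebraMap A L) := fun i => by
    have h : rs[i] ∈ Ideal.ofList rs := Ideal.subset_span (List.getElem_mem i.2)
    rwa [hspan] at h
  choose x hx using fun i => (IsLocalization.mem_map_algebraMap_iff 𝔭.primeCompl L).mp (hrJ i)
  refine ⟨rs.length, fun i => (x i).1, fun i => (x i).1.2, le_antisymm ?_ (Ideal.span_le.mpr ?_), ?_⟩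
  · rw [← hspan, Ideal.ofList, Ideal.span_le]
    intro r hr
    obtain ⟨n, hn, rfl⟩ := List.getElem_of_mem hr
    obtain ⟨u, hu⟩ := (IsLocalization.map_units L (x ⟨n, hn⟩).2).exists_right_inv
    have h := hx ⟨n, hn⟩
    have : rs[n] = algebraMap A L (x ⟨n, hn⟩).1 * u := by
      rw [← h, mul_assoc, hu, mul_one]; rfl
    rw [this]
    exact Ideal.mul_mem_right _ _ (Ideal.subset_span ⟨⟨n, hn⟩, rfl⟩)
  · rintro _ ⟨i, rfl⟩
    exact Ideal.mem_map_of_mem _ (x i).1.2
  · rw [← hspan]
    exact (ringKrullDim_add_length_eq_ringKrullDim_of_isRegular _ hreg).le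

/-- Minimal equations of a regular quotient have independent Jacobian vectors. -/
theorem linearIndependent_of_regular {k : Type v} {A R : Type u} [CommRing k] [CommRing A] [IsRegularRing A] [Algebra k A]
    [CommRing R] [IsDomain R] (π : A →+* R) (hπ : Function.Surjective π) (L : Type u) [CommRing L] [Algebra A L]
    [hp : (RingHom.ker π).IsPrime] [IsLocalization.AtPrime L (RingHom.ker π)] [IsRegularLocalRing L]
    {ι : Type u} [Fintype ι] (D : ι → Derivation k A A) {h : ℕ} (f : Fin h → A) (hf : ∀ i, π (f i) = 0)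
    (hind : LinearIndependent (FractionRing R) fun j => fun i => algebraMap R (FractionRing R) (π (D i (f j))))
    (hht : (RingHom.ker π).height ≤ h) {m : ℕ} (g : Fin m → A) (hg : ∀ i, π (g i) = 0)
    [IsRegularLocalRing (L ⧸ Ideal.span (Set.range fun i => algebraMap A L (g i)))]
    (hmin : ringKrullDim (L ⧸ Ideal.span (Set.range fun i => algebraMap A L (g i))) + m ≤ ringKrullDim L) :
    LinearIndependent (FractionRing R) fun j => fun i => algebraMap R (FractionRing R) (π (D i (g j))) := by
  classical
  let φ := algebraMap A L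
  let J : Ideal L := Ideal.span (Set.range fun i => φ (g i))
  let K := FractionRing R
  have hinj := IsFractionRing.injective R K
  have hmax : ∀ x, π x = 0 → φ x ∈ maximalIdeal L := fun x hx =>
    (IsLocalization.AtPrime.to_map_mem_maximal_iff L (RingHom.ker π) x).mpr hx
  -- minimality
  have hminimal : ∀ c : Fin m → L, ∑ j, c j * φ (g j) ∈ maximalIdeal L * J → ∀ j, c j ∈ maximalIdeal L := by
    intro c hc j
    by_contra hu
    rw [mem_maximalIdeal, mem_nonunits_iff, not_not] at hu
    let s : Finset L := (Finset.univ.erase j).image fun i => φ (g i)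
    have hsJ : Ideal.span (s : Set L) ≤ J := Ideal.span_le.mpr (by
      intro y hy
      obtain ⟨i, -, rfl⟩ := Finset.mem_image.mp (Finset.mem_coe.mp hy)
      exact Ideal.subset_span ⟨i, rfl⟩)
    have hle : J ≤ Ideal.span (s : Set L) ⊔ maximalIdeal L • J := by
      refine Ideal.span_le.mpr ?_
      rintro _ ⟨i, rfl⟩
      by_cases hij : i = j
      · subst hij
        have hrest : ∑ l ∈ Finset.univ.erase i, c l * φ (g l) ∈ Ideal.span (s : Set L) :=
          Ideal.sum_mem _ fun l hl => Ideal.mul_mem_left _ _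
            (Ideal.subset_span (Finset.mem_coe.mpr (Finset.mem_image_of_mem _ hl)))
        obtain ⟨d, hd⟩ := hu.exists_left_inv
        have e : φ (g i) = d * (∑ l, c l * φ (g l) - ∑ l ∈ Finset.univ.erase i, c l * φ (g l)) := by
          rw [← Finset.add_sum_erase _ _ (Finset.mem_univ i), add_sub_cancel_right, ← mul_assoc, hd, one_mul]
        show φ (g i) ∈ _
        rw [e]
        exact Ideal.mul_mem_left _ _ (sub_mem (Ideal.mem_sup_right hc) (Ideal.mem_sup_left hrest))
      · exact Ideal.mem_sup_left (Ideal.subset_span (Finset.mem_coe.mpr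
          (Finset.mem_image_of_mem _ (Finset.mem_erase.mpr ⟨hij, Finset.mem_univ i⟩))))
    have heq : J = Ideal.span (s : Set L) := by
      refine le_antisymm ?_ hsJ
      exact Submodule.le_of_le_smul_of_le_jacobson_bot (IsNoetherian.noetherian J)
        (IsLocalRing.maximalIdeal_le_jacobson _) hle
    have hsm : (s : Set L) ⊆ Ring.jacobson L := by
      intro y hy
      obtain ⟨i, -, rfl⟩ := Finset.mem_image.mp (Finset.mem_coe.mp hy)
      rw [← Ideal.jacobson_bot]
      exact IsLocalRing.maximalIdeal_le_jacobson _ (hmax _ (hg i))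
    have h1 := ringKrullDim_le_ringKrullDim_quotient_add_card s hsm
    rw [ringKrullDim_eq_of_ringEquiv (Ideal.quotEquivOfEq heq.symm)] at h1
    obtain ⟨a, ha⟩ : ∃ a : ℕ, ringKrullDim (L ⧸ J) = a :=
      ⟨_, (IsRegularLocalRing.spanFinrank_maximalIdeal (R := L ⧸ J)).symm⟩
    have h2 : ringKrullDim (L ⧸ J) + m ≤ ringKrullDim (L ⧸ J) + s.card := hmin.trans h1
    rw [ha] at h2
    have h3 : a + m ≤ a + s.card := by exact_mod_cast h2
    have h4 : s.card ≤ m - 1 := Finset.card_image_le.trans (by simp)
    have := j.pos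
    omega
  -- local generation by `f`
  obtain ⟨D', hdet⟩ := exists_det_of_linearIndependent π hπ D f hind
  obtain ⟨s, hs, hsf⟩ := exists_mul_mem_span π f (fun i => ((D' i).restrictScalars ℤ : IDer A)) hf hdet hht
  rw [Fintype.linearIndependent_iff]
  intro c hc
  obtain ⟨b, hb⟩ := IsLocalization.exist_integer_multiples (nonZeroDivisors R) (Finset.univ) c
  choose c₁ hc₁ using fun j => hb j (Finset.mem_univ j)
  choose c' hc' using fun j => hπ (c₁ j)
  let x : A := ∑ j, c' j * g j
  have hx0 : π x = 0 := by simp [x, map_sum, hg]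
  have hDx : ∀ i, π (D i x) = 0 := by
    intro i
    apply hinj
    have h1 := congrFun hc i
    simp only [Finset.sum_apply, Pi.smul_apply, Pi.zero_apply, smul_eq_mul] at h1
    have h2 : π (D i x) = ∑ j, c₁ j * π (D i (g j)) := by
      simp only [x, map_sum, Derivation.leibniz, smul_eq_mul, map_add, map_mul, hg, zero_mul, add_zero, hc']
    rw [h2, map_zero, map_sum, ← mul_zero (algebraMap R K (b : R)), ← h1, Finset.mul_sum]
    refine Finset.sum_congr rfl fun j _ => ?_
    rw [map_mul, hc₁, Algebra.smul_def, mul_assoc]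
  obtain ⟨a, ha⟩ := (Submodule.mem_span_range_iff_exists_fun A).mp (hsf x hx0)
  have hazero : ∀ l, π (a l) = 0 := by
    have h1 := Fintype.linearIndependent_iff.mp hind (fun l => algebraMap R K (π (a l))) (funext fun i => by
      simp only [Finset.sum_apply, Pi.smul_apply, Pi.zero_apply, smul_eq_mul]
      rw [← map_zero (algebraMap R K)]
      have h3 := congrArg (fun y => π (D i y)) ha
      simp only [map_sum, smul_eq_mul, Derivation.leibniz, map_add, map_mul, hf, zero_mul, add_zero, hDx, hx0,
        mul_zero] at h3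
      rw [← h3, map_sum]
      exact Finset.sum_congr rfl fun _ _ => (map_mul _ _ _).symm)
    exact fun l => hinj ((h1 l).trans (map_zero _).symm)
  have hsu : IsUnit (φ s) := IsLocalization.map_units L (⟨s, hs⟩ : (RingHom.ker π).primeCompl)
  have hx2 : φ x ∈ maximalIdeal L ^ 2 := by
    rw [← Ideal.unit_mul_mem_iff_mem _ hsu, ← map_mul, ← ha, map_sum, sq]
    refine Ideal.sum_mem _ fun l _ => ?_
    rw [smul_eq_mul, map_mul]
    exact Ideal.mul_mem_mul (hmax _ (hazero l)) (hmax _ (hf l))
  have hxJ : φ x ∈ J := by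
    rw [map_sum]
    exact Ideal.sum_mem _ fun j _ => by rw [map_mul]; exact Ideal.mul_mem_left _ _ (Ideal.subset_span ⟨j, rfl⟩)
  have hxm : φ x ∈ maximalIdeal L * J := inf_sq_le_mul_of_regular_quotient L J ⟨hxJ, hx2⟩
  intro j
  have h1 := hminimal (fun j => φ (c' j)) (by simpa [x, map_sum, map_mul] using hxm) j
  have h2 : π (c' j) = 0 := (IsLocalization.AtPrime.to_map_mem_maximal_iff L (RingHom.ker π) (c' j)).mp h1
  have h3 := hc₁ j
  rw [← hc', h2, map_zero, Algebra.smul_def, zero_eq_mul] at h3
  exact h3.resolve_left ((map_ne_zero_iff _ hinj).mpr (nonZeroDivisors.ne_zero b.2))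

end Groth.Ega41Jac
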