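import Groth.Agent.Ega41Jac.JacobianComplete
import Groth.Agent.Ega41Jac.RegularIndep
import Groth.Agent.Calg4.GeomRegularLocal
import Groth.Agent.Calg5.CohenStructure
import Groth.Agent.AdicLinTop.Adic
import Groth.Agent.AdicLinTop.RigClosed

/-! Independence of Jacobian vectors after adjoining all `p`-th roots of the base field. -/

universe u

open TensorProduct IsLocalRing

namespace Groth.Ega41Jac

/-- The field of `p`-th roots. -/
theorem exists_root_field (p : ℕ) {k : Type u} [Field k] [Fact p.Prime] [CharP k p]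
    (hk : Module.Finite (frobenius k p).fieldRange k) :
    ∃ (E : Type u) (_ : Field E) (_ : Algebra k E), Module.Finite k E ∧
      (∀ x : E, x ^ p ∈ (algebraMap k E).range) ∧ ∀ c : k, ∃ x : E, algebraMap k E c = x ^ p := by
  refine ⟨k, inferInstance, (frobenius k p).toAlgebra, ?_, fun x => ⟨x ^ 1, ?_⟩, fun c => ⟨c, rfl⟩⟩
  · have h1 : ((frobenius k p).fieldRange.subtype).Finite := hk
    have h2 : ((frobenius k p).rangeRestrictField).Finite :=
      RingHom.Finite.of_surjective _ fun ⟨y, hy⟩ => by
        obtain ⟨x, hx⟩ := hy; exact ⟨x, Subtype.ext hx⟩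
    exact h1.comp h2
  · show (x ^ 1) ^ p = x ^ p
    rw [pow_one]

/-- Derivations killing the base decompose along a basis into derivations of the coefficients. -/
theorem exists_coordinates {k A S : Type u} [CommRing k] [CommRing A] [Algebra k A] [CommRing S]
    [Algebra A S] [Algebra k S] [IsScalarTower k A S] {ι : Type u} [Fintype ι] (b : Module.Basis ι A S)
    (D : Groth.Ega4b.Jac.IDer S) (hD : ∀ c : k, D (algebraMap k S c) = 0) :
    ∃ D' : ι → Derivation k A A, ∀ a, D (algebraMap A S a) = ∑ l, D' l a • b l := by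
  refine ⟨fun l => Derivation.mk'
    { toFun := fun a => b.repr (D (algebraMap A S a)) l
      map_add' := fun x y => by simp only [map_add, Finsupp.add_apply]
      map_smul' := fun c x => ?_ } fun x y => ?_, fun a => ?_⟩
  · have h1 : D (algebraMap A S (c • x)) = algebraMap k A c • D (algebraMap A S x) := by
      rw [Algebra.smul_def c x, map_mul, Groth.Ega4b.Jac.IDer_mul, ← IsScalarTower.algebraMap_apply, hD, mul_zero,
        add_zero, Algebra.smul_def, IsScalarTower.algebraMap_apply k A S]
    show b.repr (D (algebraMap A S (c • x))) l = c • b.repr (D (algebraMap A S x)) l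
    rw [h1, map_smul, Finsupp.smul_apply, smul_eq_mul, Algebra.smul_def]
  · show b.repr (D (algebraMap A S (x * y))) l =
      x • b.repr (D (algebraMap A S y)) l + y • b.repr (D (algebraMap A S x)) l
    rw [map_mul, Groth.Ega4b.Jac.IDer_mul, map_add, Finsupp.add_apply, ← Algebra.smul_def, ← Algebra.smul_def,
      map_smul, map_smul, Finsupp.smul_apply, Finsupp.smul_apply]
  · exact (b.sum_repr _).symm

/-- Descent of independence of Jacobian vectors along a free extension. -/
theorem exists_independent_of_finite (p : ℕ) [Fact p.Prime] {k A S : Type u} [CommRing k] [CommRing A] [Algebra k A]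
    [CommRing S] [IsRegularRing S] [CharP S p] [Algebra A S] [Algebra k S] [IsScalarTower k A S]
    (hroot : ∀ c : k, ∃ x : S, algebraMap k S c = x ^ p)
    {ι : Type u} [Fintype ι] (b : Module.Basis ι A S) (𝔭 : Ideal A) [𝔭.IsPrime] (P : Ideal S) [P.IsPrime]
    (hP : P.comap (algebraMap A S) = 𝔭)
    (W : Type u) [CommRing W] [Algebra S W] [IsLocalization.AtPrime W P] [IsRegularLocalRing W]
    {t : ℕ} (D : ULift.{u} (Fin t) → Derivation ℤ S S) (f : Fin t → S) (hfP : ∀ j, f j ∈ P) (hht : P.height ≤ t)
    (hind : LinearIndependent (FractionRing (S ⧸ P))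
      fun j i => algebraMap (S ⧸ P) (FractionRing (S ⧸ P)) (Ideal.Quotient.mk P (D i (f j))))
    {m : ℕ} (g : Fin m → A) (hg : ∀ i, g i ∈ 𝔭)
    [IsRegularLocalRing (W ⧸ Ideal.span (Set.range fun i => algebraMap S W (algebraMap A S (g i))))]
    (hmin : ringKrullDim (W ⧸ Ideal.span (Set.range fun i => algebraMap S W (algebraMap A S (g i)))) + m ≤
      ringKrullDim W) :
    ∃ D' : ULift.{u} (Fin t) × ι → Derivation k A A,
      LinearIndependent (FractionRing (A ⧸ 𝔭)) fun j i =>
        algebraMap (A ⧸ 𝔭) (FractionRing (A ⧸ 𝔭)) (Ideal.Quotient.mk 𝔭 (D' i (g j))) := by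
  classical
  haveI : (RingHom.ker (Ideal.Quotient.mk P)).IsPrime := by rw [Ideal.mk_ker]; infer_instance
  haveI : IsLocalization.AtPrime W (RingHom.ker (Ideal.Quotient.mk P)) := by
    simp only [Ideal.mk_ker]; infer_instance
  have hindg := linearIndependent_of_regular (Ideal.Quotient.mk P) Ideal.Quotient.mk_surjective W D f
    (fun i => Ideal.Quotient.eq_zero_iff_mem.mpr (hfP i)) hind (by rw [Ideal.mk_ker]; exact hht)
    (fun i => algebraMap A S (g i))
    (fun i => Ideal.Quotient.eq_zero_iff_mem.mpr (hP.symm ▸ hg i : g i ∈ P.comap (algebraMap A S)))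
    hmin
  have hD : ∀ i, ∀ c : k, D i (algebraMap k S c) = 0 := fun i c => by
    obtain ⟨x, hx⟩ := hroot c
    rw [hx]
    exact Groth.Ega4b.Jac.IDer_pow_char p (D i) _
  choose D' hD' using fun i => exists_coordinates b (D i) (hD i)
  refine ⟨fun il => D' il.1 il.2, ?_⟩
  rw [linearIndependent_iff_forall _ Ideal.Quotient.mk_surjective]
  intro a ha j
  have h1 := (linearIndependent_iff_forall _ Ideal.Quotient.mk_surjective _).mp hindg
    (fun j => algebraMap A S (a j)) (fun i => by
      rw [Ideal.Quotient.eq_zero_iff_mem]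
      have h2 : ∑ j, algebraMap A S (a j) * D i (algebraMap A S (g j)) =
          ∑ l, algebraMap A S (∑ j, a j * D' i l (g j)) * b l := by
        simp only [hD', map_sum, map_mul, Finset.sum_mul, Finset.mul_sum, Algebra.smul_def, mul_assoc]
        exact Finset.sum_comm
      rw [h2]
      refine Ideal.sum_mem _ fun l _ => Ideal.mul_mem_right _ _ ?_
      exact (hP.symm ▸ Ideal.Quotient.eq_zero_iff_mem.mp (ha (i, l)) :
        ∑ j, a j * D' i l (g j) ∈ P.comap (algebraMap A S))) j
  rw [Ideal.Quotient.eq_zero_iff_mem] at h1 ⊢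
  exact hP ▸ (h1 : a j ∈ P.comap (algebraMap A S))

variable {k A : Type u} [Field k] [CommRing A] [Algebra k A]

/-- Regular quotients stay cut out by equations with independent Jacobian over the base field. -/
theorem exists_independent_charP (p : ℕ) [Fact p.Prime] [CharP k p]
    (hk : Module.Finite (frobenius k p).fieldRange k) [IsRegularLocalRing A] [IsAdicComplete (maximalIdeal A) A]
    (hA : CAlg.IsGeometricallyRegular k A) (𝔭 : Ideal A) [𝔭.IsPrime] {B : Type u} [CommRing B] [IsLocalRing B]
    [Algebra k B] (θ : Localization.AtPrime 𝔭 →ₐ[k] B) (hθ : Function.Surjective θ)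
    (hB : CAlg.IsGeometricallyRegular k B) {m : ℕ} (g : Fin m → A) (hg : ∀ i, g i ∈ 𝔭)
    (hker : RingHom.ker θ.toRingHom = Ideal.span (Set.range fun i => algebraMap A (Localization.AtPrime 𝔭) (g i)))
    (hmin : ringKrullDim B + m ≤ ringKrullDim (Localization.AtPrime 𝔭)) :
    ∃ (ι : Type u) (_ : Fintype ι) (D : ι → Derivation k A A),
      LinearIndependent (FractionRing (A ⧸ 𝔭)) fun j i =>
        algebraMap (A ⧸ 𝔭) (FractionRing (A ⧸ 𝔭)) (Ideal.Quotient.mk 𝔭 (D i (g j))) := by
  classical
  obtain ⟨E, _, _, hEfin, hEpow, hkroot⟩ := exists_root_field p hk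
  haveI : CharP E p := charP_of_injective_algebraMap (algebraMap k E).injective p
  let A' := A ⊗[k] E
  let Ap := Localization.AtPrime 𝔭
  have hincl : Function.Injective (algebraMap A A') :=
    Algebra.TensorProduct.includeLeft_injective (S := A) (algebraMap k E).injective
  haveI : Nontrivial A' := hincl.nontrivial
  haveI : CharP A p := charP_of_injective_algebraMap (algebraMap k A).injective p
  haveI : CharP A' p := charP_of_injective_algebraMap hincl p
  haveI : Module.Finite A A' := inferInstance
  haveI : IsNoetherianRing A' := IsNoetherianRing.of_finite A A'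
  haveI : IsRegularRing A' :=
    haveI := hA E hEfin
    IsRegularRing.of_ringEquiv (Algebra.TensorProduct.comm k E A).toRingEquiv
  -- powers come from `A`
  have hpow : ∀ x : A', ∃ a, algebraMap A A' a = x ^ p := by
    intro x
    induction x using TensorProduct.induction_on with
    | zero => exact ⟨0, by rw [map_zero, zero_pow (Fact.out : p.Prime).ne_zero]⟩
    | tmul a c =>
      obtain ⟨c', hc'⟩ := hEpow c
      refine ⟨c' • a ^ p, ?_⟩
      rw [Algebra.TensorProduct.tmul_pow, ← hc', Algebra.algebraMap_eq_smul_one c', tmul_smul, smul_tmul']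
      rfl
    | add x y hx hy =>
      obtain ⟨a, ha⟩ := hx
      obtain ⟨b, hb⟩ := hy
      exact ⟨a + b, by rw [map_add, ha, hb, add_pow_char]⟩
  have huniq : ∀ (P₁ P₂ : Ideal A') [P₁.IsPrime] [P₂.IsPrime],
      P₁.comap (algebraMap A A') = P₂.comap (algebraMap A A') → P₁ = P₂ := by
    intro P₁ P₂ h₁ h₂ heq
    ext x
    obtain ⟨a, ha⟩ := hpow x
    rw [← h₁.pow_mem_iff_mem p (Fact.out : p.Prime).pos, ← ha, ← h₂.pow_mem_iff_mem p (Fact.out : p.Prime).pos, ← ha,
      ← Ideal.mem_comap, heq, Ideal.mem_comap]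
  obtain ⟨M, hM⟩ := Ideal.exists_maximal A'
  have hcomap : ∀ J : Ideal A', J.IsMaximal → J.comap (algebraMap A A') = maximalIdeal A := fun J hJ =>
    IsLocalRing.eq_maximalIdeal (Ideal.isMaximal_comap_of_isIntegral_of_isMaximal (R := A) J)
  haveI : IsLocalRing A' := IsLocalRing.of_unique_max_ideal ⟨M, hM, fun J hJ => by
    haveI := hJ.isPrime
    haveI := hM.isPrime
    exact huniq J M ((hcomap J hJ).trans (hcomap M hM).symm)⟩
  haveI : IsAdicComplete (maximalIdeal A') A' := by
    haveI : IsAdicComplete (maximalIdeal A) A' := Groth.AdicLinTop.Adic.isAdicComplete_of_finite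
    haveI : IsAdicComplete ((maximalIdeal A).map (algebraMap A A')) A' :=
      (IsAdicComplete.map_algebraMap_iff (maximalIdeal A) A' (S := A')).2 inferInstance
    have hle : maximalIdeal A' ≤ ((maximalIdeal A).map (algebraMap A A')).radical := fun x hx => by
      obtain ⟨a, ha⟩ := hpow x
      refine ⟨p, ha ▸ Ideal.mem_map_of_mem _ ?_⟩
      rw [← hcomap _ (maximalIdeal.isMaximal A'), Ideal.mem_comap, ha]
      exact Ideal.pow_mem_of_mem _ hx p (Fact.out : p.Prime).pos
    obtain ⟨N, hN⟩ := Ideal.exists_pow_le_of_le_radical_of_fg hle (IsNoetherian.noetherian _)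
    exact Groth.AdicLinTop.RigClosed.isAdicComplete_of_pow_le
      (Ideal.map_le_iff_le_comap.mpr (hcomap _ (maximalIdeal.isMaximal A')).ge) hN A'
  haveI : IsRegularLocalRing A' := IsRegularLocalRing.of_isRegularRing_of_isLocalRing _
  letI : Algebra k A' := inferInstance
  obtain ⟨n, ⟨e⟩⟩ := Groth.Calg5.CohenStructure.exists_ringEquiv_mvPowerSeries A' k
  haveI : CharP (ResidueField A') p :=
    charP_of_injective_ringHom ((residue A').comp (algebraMap k A')).injective p
  -- the prime over `𝔭`
  obtain ⟨P, hPprime, hP⟩ := Ideal.exists_ideal_over_prime_of_isIntegral (R := A) (S := A') 𝔭 (⊥ : Ideal A')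
    (by rw [Ideal.comap_bot_of_injective _ hincl]; exact bot_le)
    |>.imp fun P h => And.intro h.2.1 h.2.2
  obtain ⟨t, D, f, hfP, hht, hind⟩ := exists_rank_charP p e.symm P
  -- the localisation
  let W := Ap ⊗[k] E
  letI : Algebra A' W := (Algebra.TensorProduct.map (IsScalarTower.toAlgHom A A Ap) (AlgHom.id k E)).toAlgebra
  haveI : IsScalarTower A A' W := IsScalarTower.of_algebraMap_eq fun a => by
    show _ = Algebra.TensorProduct.map (IsScalarTower.toAlgHom A A Ap) (AlgHom.id k E) (a ⊗ₜ 1)
    rw [Algebra.TensorProduct.map_tmul, map_one]; rfl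
  haveI hW : IsLocalization (Algebra.algebraMapSubmonoid A' 𝔭.primeCompl) W :=
    IsLocalization.tensorProduct_tensorProduct k E 𝔭.primeCompl Ap (RingHom.ext fun c => by
      show Algebra.TensorProduct.map (IsScalarTower.toAlgHom A A Ap) (AlgHom.id k E) (1 ⊗ₜ c) = _
      rw [Algebra.TensorProduct.map_tmul, map_one]; rfl)
  haveI : IsLocalization.AtPrime W P := by
    refine IsLocalization.of_le_of_exists_dvd (M := Algebra.algebraMapSubmonoid A' 𝔭.primeCompl) (S := W) P.primeCompl ?_ ?_
    · rintro _ ⟨a, ha, rfl⟩ h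
      exact ha (hP ▸ h : a ∈ 𝔭)
    · intro x hx
      obtain ⟨a, ha⟩ := hpow x
      exact ⟨x ^ p, ⟨a, fun h => hx (hPprime.mem_of_pow_mem p (ha ▸ (hP ▸ h : a ∈ P.comap _))), ha⟩,
        dvd_pow_self x (Fact.out : p.Prime).ne_zero⟩
  haveI : IsLocalRing W := IsLocalization.AtPrime.isLocalRing W P
  haveI : IsRegularRing W := Groth.Calg4.isRegularRing_of_isLocalization _ (Algebra.algebraMapSubmonoid A' 𝔭.primeCompl)
  haveI : IsRegularLocalRing W := IsRegularLocalRing.of_isRegularRing_of_isLocalRing _
  -- the quotient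
  let Θ : W →ₐ[k] B ⊗[k] E := Algebra.TensorProduct.map θ (AlgHom.id k E)
  have hΘ : Function.Surjective Θ := TensorProduct.map_surjective hθ Function.surjective_id
  let J : Ideal W := Ideal.span (Set.range fun i => algebraMap A' W (algebraMap A A' (g i)))
  have hΘker : RingHom.ker Θ.toRingHom = J := by
    have h := Algebra.TensorProduct.rTensor_ker (R := k) (S := k) (C := E) θ hθ
    refine h.trans ?_
    show (RingHom.ker θ.toRingHom).map _ = J
    rw [hker, Ideal.map_span, ← Set.range_comp]
    refine congrArg Ideal.span (congrArg Set.range (funext fun i => ?_))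
    show algebraMap A Ap (g i) ⊗ₜ[k] (1 : E) = _
    rw [← IsScalarTower.algebraMap_apply]
    rfl
  let eB : (W ⧸ J) ≃+* B ⊗[k] E :=
    (Ideal.quotEquivOfEq hΘker.symm).trans (RingHom.quotientKerEquivOfSurjective (f := Θ.toRingHom) hΘ)
  haveI : IsRegularRing (B ⊗[k] E) :=
    haveI := hB E hEfin
    IsRegularRing.of_ringEquiv (Algebra.TensorProduct.comm k E B).toRingEquiv
  haveI : Nontrivial (W ⧸ J) := eB.toEquiv.nontrivial_congr.mpr
    ((Algebra.TensorProduct.includeLeft_injective (A := B) (S := B) (algebraMap k E).injective).nontrivial)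
  haveI : IsLocalRing (W ⧸ J) := IsLocalRing.of_surjective' (Ideal.Quotient.mk J) Ideal.Quotient.mk_surjective
  haveI : IsRegularRing (W ⧸ J) := IsRegularRing.of_ringEquiv eB.symm
  haveI : IsRegularLocalRing (W ⧸ J) := IsRegularLocalRing.of_isRegularRing_of_isLocalRing _
  have hdimJ : ringKrullDim (W ⧸ J) = ringKrullDim B := by
    rw [ringKrullDim_eq_of_ringEquiv eB]
    exact Groth.Calg8.ringKrullDim_eq_of_integral B (B ⊗[k] E)
      (Algebra.TensorProduct.includeLeft_injective (A := B) (S := B) (algebraMap k E).injective)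
  have hdimW : ringKrullDim W = ringKrullDim Ap :=
    Groth.Calg8.ringKrullDim_eq_of_integral Ap W
      (Algebra.TensorProduct.includeLeft_injective (A := Ap) (S := Ap) (algebraMap k E).injective)
  obtain ⟨D', hD'⟩ := exists_independent_of_finite p (fun c => by
    obtain ⟨x, hx⟩ := hkroot c
    refine ⟨(1 : A) ⊗ₜ[k] x, ?_⟩
    rw [Algebra.TensorProduct.tmul_pow, one_pow, ← hx, Algebra.algebraMap_eq_smul_one (R := k) (A := E) c, tmul_smul,
      Algebra.algebraMap_eq_smul_one]
    rfl) ((Algebra.TensorProduct.basis A (Module.finBasis k E)).reindex Equiv.ulift.{u}.symm) 𝔭 P hP W D f hfP hht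
    hind g hg (show ringKrullDim (W ⧸ J) + m ≤ ringKrullDim W by rw [hdimJ, hdimW]; exact hmin)
  exact ⟨_, inferInstance, D', hD'⟩

end Groth.Ega41Jac
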