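import Groth.Agent.Ega41Jac.DerivationMatrix
import Groth.Agent.Ega4Algebra2.NagataJacobian
import Groth.Agent.FrobLCI.CE.Reduce
import Groth.Agent.Calg6.PowerSeries

/-! Jacobian vectors of primes in power series rings over a field. -/

universe u v w

open MvPowerSeries IsLocalRing

namespace Groth.Ega41Jac

open Groth.Ega4b.Jac Groth.SGA7.PS

/-- Independence over the fraction field, tested on integral coefficients. -/
theorem linearIndependent_iff_forall {P R : Type u} [CommRing P] [CommRing R] [IsDomain R] (π : P →+* R)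
    (hπ : Function.Surjective π) {ι : Type v} {m : ℕ} (M : ι → Fin m → P) :
    LinearIndependent (FractionRing R) (fun j i => algebraMap R (FractionRing R) (π (M i j))) ↔
      ∀ a : Fin m → P, (∀ i, π (∑ j, a j * M i j) = 0) → ∀ j, π (a j) = 0 := by
  classical
  let K := FractionRing R
  have hinj := IsFractionRing.injective R K
  constructor
  · intro h a ha j
    have h1 := Fintype.linearIndependent_iff.mp h (fun j => algebraMap R K (π (a j))) (funext fun i => by
      simp only [Finset.sum_apply, Pi.smul_apply, Pi.zero_apply, smul_eq_mul]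
      rw [← map_zero (algebraMap R K), ← ha i, map_sum, map_sum]
      exact Finset.sum_congr rfl fun _ _ => by rw [map_mul, map_mul]) j
    exact hinj (h1.trans (map_zero _).symm)
  · intro h
    rw [Fintype.linearIndependent_iff]
    intro c hc j
    obtain ⟨b, hb⟩ := IsLocalization.exist_integer_multiples (nonZeroDivisors R) Finset.univ c
    choose c₁ hc₁ using fun j => hb j (Finset.mem_univ j)
    choose a ha using fun j => hπ (c₁ j)
    have h1 := h a (fun i => hinj (by
      have h2 := congrFun hc i
      simp only [Finset.sum_apply, Pi.smul_apply, Pi.zero_apply, smul_eq_mul] at h2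
      rw [map_zero, map_sum, map_sum, ← mul_zero (algebraMap R K (b : R)), ← h2, Finset.mul_sum]
      refine Finset.sum_congr rfl fun l _ => ?_
      rw [map_mul, map_mul, ha, hc₁, Algebra.smul_def, mul_assoc])) j
    have h3 := hc₁ j
    rw [← ha, h1, map_zero, Algebra.smul_def, zero_eq_mul] at h3
    exact h3.resolve_left ((map_ne_zero_iff _ hinj).mpr (nonZeroDivisors.ne_zero b.2))

/-- A nonvanishing Jacobian has independent columns. -/
theorem linearIndependent_of_det {P R : Type u} [CommRing P] [CommRing R] [IsDomain R] (π : P →+* R)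
    (hπ : Function.Surjective π) {m : ℕ} (M : Fin m → Fin m → P) (hdet : π (Matrix.of M).det ≠ 0) :
    LinearIndependent (FractionRing R) (fun j i => algebraMap R (FractionRing R) (π (M i j))) := by
  rw [linearIndependent_iff_forall π hπ]
  intro a ha
  have h := Matrix.eq_zero_of_mulVec_eq_zero (M := π.mapMatrix (Matrix.of M)) (v := fun j => π (a j))
    (by rw [← RingHom.map_det]; exact hdet) (funext fun i => by
      rw [Pi.zero_apply, ← ha i, map_sum]
      simp [Matrix.mulVec, dotProduct, mul_comm])
  exact fun j => congrFun h j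

/-- Complete Noetherian local domains with a coefficient field are finite over power series. -/
theorem exists_finite_injective_field {K R : Type u} [Field K] [CommRing R] [IsDomain R] [IsLocalRing R]
    [IsNoetherianRing R] [IsAdicComplete (maximalIdeal R) R] (ι : K →+* R)
    (hι : Function.Surjective ((residue R).comp ι)) :
    ∃ (d : ℕ) (g : MvPowerSeries (Fin d) K →+* R), Function.Injective g ∧ g.Finite ∧ (∀ c, g (C c) = ι c) ∧
      (∀ i, g (X i) ∈ maximalIdeal R) ∧ ringKrullDim R = d := by
  classical
  obtain ⟨d, a, hd, ha, N, hN⟩ := Groth.Calg2.CompleteStructure.exists_parameters R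
  let g := Groth.Calg2.CompleteStructure.ev ι a ha
  letI := g.toAlgebra
  letI := ι.toAlgebra
  haveI : IsScalarTower K (MvPowerSeries (Fin d) K) R :=
    IsScalarTower.of_algebraMap_eq fun l => (Groth.Calg2.CompleteStructure.ev_C ι a ha l).symm
  have hI : (varIdeal (Fin d) K).map (algebraMap (MvPowerSeries (Fin d) K) R) = Ideal.span (Set.range a) :=
    Groth.Calg2.CompleteStructure.map_varIdeal_ev ι a ha
  haveI : IsHausdorff ((varIdeal (Fin d) K).map (algebraMap (MvPowerSeries (Fin d) K) R)) R := by
    refine IsHausdorff.of_le_jacobson _ _ ?_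
    rw [IsLocalRing.jacobson_eq_maximalIdeal _ bot_ne_top, hI, Ideal.span_le]
    rintro _ ⟨i, rfl⟩; exact ha i
  haveI : IsAdicComplete (varIdeal (Fin d) K) (MvPowerSeries (Fin d) K) := Calg6.isAdicComplete_varIdeal
  haveI : Module.Finite K (R ⧸ (varIdeal (Fin d) K).map (algebraMap (MvPowerSeries (Fin d) K) R)) := by
    rw [hI]; exact Groth.Calg2.CompleteStructure.finite_quotient_of_pow_le hι _ N hN
  haveI : Module.Finite (MvPowerSeries (Fin d) K)
      (R ⧸ (varIdeal (Fin d) K).map (algebraMap (MvPowerSeries (Fin d) K) R)) :=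
    Module.Finite.of_restrictScalars_finite K _ _
  haveI hfin : Module.Finite (MvPowerSeries (Fin d) K) R :=
    Groth.Calg2.CompleteStructure.finite_of_finite_quotient (varIdeal (Fin d) K)
  haveI : IsRegularLocalRing (MvPowerSeries (Fin d) K) := Groth.Calg6.isRegularLocalRing_mvPowerSeries K d
  haveI : IsDomain (MvPowerSeries (Fin d) K) := Groth.Ega4Algebra1.isDomain_of_isRegularLocalRing _
  have hdim : ringKrullDim (MvPowerSeries (Fin d) K) = d := Groth.Calg6.ringKrullDim_mvPowerSeries K d
  have hinj : Function.Injective g := by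
    by_contra hni
    obtain ⟨z, hz, hz0⟩ : ∃ z, z ∈ RingHom.ker g ∧ z ≠ 0 := by
      by_contra! h
      exact hni ((injective_iff_map_eq_zero _).2 fun z hz => h z hz)
    have h1 : ringKrullDim (MvPowerSeries (Fin d) K ⧸ RingHom.ker g) + 1 ≤ ringKrullDim (MvPowerSeries (Fin d) K) :=
      le_trans (add_le_add_left (ringKrullDim_le_of_surjective
        (Ideal.Quotient.factor ((Ideal.span_singleton_le_iff_mem _).2 hz)) (Ideal.Quotient.factor_surjective _)) 1)
        (ringKrullDim_quotient_succ_le_of_nonZeroDivisor (mem_nonZeroDivisors_of_ne_zero hz0))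
    letI : Algebra (MvPowerSeries (Fin d) K ⧸ RingHom.ker g) R := (RingHom.kerLift g).toAlgebra
    haveI : Module.Finite (MvPowerSeries (Fin d) K ⧸ RingHom.ker g) R :=
      RingHom.Finite.of_comp_finite (f := Ideal.Quotient.mk (RingHom.ker g)) (g := RingHom.kerLift g) hfin
    have h2 : ringKrullDim R ≤ ringKrullDim (MvPowerSeries (Fin d) K ⧸ RingHom.ker g) :=
      Groth.Calg2.CompleteStructure.ringKrullDim_le_of_finite_injective
    have h3 : (d : WithBot ℕ∞) + 1 ≤ (d : WithBot ℕ∞) := (add_le_add_left (hd.trans h2) 1).trans (hdim ▸ h1)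
    have : d + 1 ≤ d := by exact_mod_cast h3
    omega
  refine ⟨d, g, hinj, hfin, Groth.Calg2.CompleteStructure.ev_C ι a ha,
    fun i => by rw [Groth.Calg2.CompleteStructure.ev_X]; exact ha i, ?_⟩
  rw [Groth.Calg8.ringKrullDim_eq_of_integral (MvPowerSeries (Fin d) K) R hinj, hdim]

/-- Derivations transported along a ring isomorphism. -/
theorem exists_transport {B A : Type u} [CommRing B] [CommRing A] (e : B ≃+* A) (D : IDer B) :
    ∃ D' : IDer A, ∀ x, D' (e x) = e (D x) := by
  refine ⟨Derivation.mk'
    ((e : B →+* A).toAddMonoidHom.comp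
      ((D.toLinearMap.toAddMonoidHom).comp (e.symm : A →+* B).toAddMonoidHom)).toIntLinearMap
    (fun a b => by
      show e (D (e.symm (a * b))) = a • e (D (e.symm b)) + b • e (D (e.symm a))
      rw [map_mul, IDer_mul, map_add, map_mul, map_mul, e.apply_symm_apply, e.apply_symm_apply]
      rfl), fun x => ?_⟩
  show e (D (e.symm (e x))) = _
  rw [e.symm_apply_apply]

variable {A K : Type u} [CommRing A] [IsRegularLocalRing A] [IsAdicComplete (maximalIdeal A) A] [Field K] {n : ℕ}

/-- The data of Nagata's criterion at a prime of a power series ring. -/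
theorem exists_param (e : MvPowerSeries (Fin n) K ≃+* A) (P : Ideal A) [P.IsPrime] [IsLocalRing (A ⧸ P)]
    [IsAdicComplete (maximalIdeal (A ⧸ P)) (A ⧸ P)] :
    ∃ (d t : ℕ) (g : MvPowerSeries (Fin d) K →+* A ⧸ P), Function.Injective g ∧ g.Finite ∧
      (∀ c, g (C c) = Ideal.Quotient.mk P (e (C c))) ∧ (∀ i, g (X i) ∈ maximalIdeal (A ⧸ P)) ∧
      P.height = t ∧ t + d ≤ n := by
  let π : MvPowerSeries (Fin n) K →+* A ⧸ P := (Ideal.Quotient.mk P).comp e.toRingHom
  have hπ : Function.Surjective π := Ideal.Quotient.mk_surjective.comp e.surjective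
  have hι : Function.Surjective ((residue (A ⧸ P)).comp (π.comp C)) := fun y => by
    obtain ⟨z, rfl⟩ := residue_surjective y
    obtain ⟨z, rfl⟩ := hπ z
    refine ⟨constantCoeff z, ?_⟩
    show residue _ (π (C (constantCoeff z))) = _
    rw [← sub_eq_zero, ← map_sub, ← map_sub, residue_eq_zero_iff]
    haveI : IsLocalHom π := hπ.isLocalHom π
    intro hu
    have h1 := ((isUnit_map_iff π _).1 hu).map (constantCoeff (σ := Fin n) (R := K))
    rw [map_sub, constantCoeff_C, sub_self] at h1
    exact not_isUnit_zero h1
  obtain ⟨d, g, hinj, hfin, hC, hX, hdim⟩ := exists_finite_injective_field (π.comp C) hι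
  obtain ⟨t, ht⟩ := ENat.ne_top_iff_exists.1 (Ideal.height_ne_top (I := P) Ideal.IsPrime.ne_top')
  refine ⟨d, t, g, hinj, hfin, hC, hX, ht.symm, ?_⟩
  have h1 := height_add_ringKrullDim_quotient_le P
  rw [hdim, ← ringKrullDim_eq_of_ringEquiv e, Groth.Calg6.ringKrullDim_mvPowerSeries, ← ht] at h1
  exact_mod_cast h1

/-- Primes of complete regular local rings of characteristic `p` have enough absolute derivations. -/
theorem exists_rank_charP (p : ℕ) [Fact p.Prime] [CharP K p] (e : MvPowerSeries (Fin n) K ≃+* A) (P : Ideal A)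
    [P.IsPrime] :
    ∃ (t : ℕ) (D : ULift.{u} (Fin t) → Derivation ℤ A A) (f : Fin t → A), (∀ j, f j ∈ P) ∧ P.height ≤ t ∧
      LinearIndependent (FractionRing (A ⧸ P))
        (fun j i => algebraMap (A ⧸ P) (FractionRing (A ⧸ P)) (Ideal.Quotient.mk P (D i (f j)))) := by
  haveI : IsLocalRing (A ⧸ P) := IsLocalRing.of_surjective' (Ideal.Quotient.mk P) Ideal.Quotient.mk_surjective
  haveI := Groth.FrobLCI.CE.isAdicComplete_quotient (C := A) P
  obtain ⟨d, t, g, hinj, hfin, hC, hX, ht, htd⟩ := exists_param e P
  let π : MvPowerSeries (Fin n) K →+* A ⧸ P := (Ideal.Quotient.mk P).comp e.toRingHom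
  have hπ : Function.Surjective π := Ideal.Quotient.mk_surjective.comp e.surjective
  haveI : CharP (A ⧸ P) p := ((π.comp C).charP_iff (π.comp C).injective p).mp inferInstance
  obtain ⟨f, D, hf, hdet⟩ := exists_jacobian_charP p g hinj hfin hX π hπ (fun c => (hC c).symm) htd
  choose D' hD' using fun i => exists_transport e (D i)
  refine ⟨t, fun i => D' i.down, fun j => e (f j), fun j => Ideal.Quotient.eq_zero_iff_mem.mp (hf j), ht.le, ?_⟩
  have h : ∀ i j, Ideal.Quotient.mk P (D' i (e (f j))) = π (D i (f j)) := fun i j => by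
    rw [hD']; rfl
  rw [linearIndependent_iff_forall _ Ideal.Quotient.mk_surjective]
  intro a ha
  have hind := (linearIndependent_iff_forall π hπ _).mp
    (linearIndependent_of_det π hπ (fun i j => D i (f j)) hdet) (fun j => e.symm (a j)) (fun i => by
      rw [← ha ⟨i⟩, map_sum, map_sum]
      refine Finset.sum_congr rfl fun j _ => ?_
      rw [map_mul, map_mul, h]
      show Ideal.Quotient.mk P (e (e.symm (a j))) * _ = _
      rw [e.apply_symm_apply])
  intro j
  have := hind j
  rwa [show π (e.symm (a j)) = Ideal.Quotient.mk P (a j) from congrArg _ (e.apply_symm_apply _)] at this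

/-- Primes of complete regular local rings of characteristic zero have enough `k`-derivations. -/
theorem exists_rank_charZero {k : Type u} [Field k] [Algebra k A] [Algebra k K] [CharZero K]
    (e : MvPowerSeries (Fin n) K ≃+* A) (he : ∀ c, e (C (algebraMap k K c)) = algebraMap k A c) (P : Ideal A)
    [P.IsPrime] :
    ∃ (t : ℕ) (D : ULift.{u} (Fin n) → Derivation k A A) (f : Fin t → A), (∀ j, f j ∈ P) ∧ P.height ≤ t ∧
      LinearIndependent (FractionRing (A ⧸ P))
        (fun j i => algebraMap (A ⧸ P) (FractionRing (A ⧸ P)) (Ideal.Quotient.mk P (D i (f j)))) := by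
  classical
  haveI : IsLocalRing (A ⧸ P) := IsLocalRing.of_surjective' (Ideal.Quotient.mk P) Ideal.Quotient.mk_surjective
  haveI := Groth.FrobLCI.CE.isAdicComplete_quotient (C := A) P
  obtain ⟨d, t, g, hinj, hfin, hC, hX, ht, htd⟩ := exists_param e P
  let π : MvPowerSeries (Fin n) K →+* A ⧸ P := (Ideal.Quotient.mk P).comp e.toRingHom
  have hπ : Function.Surjective π := Ideal.Quotient.mk_surjective.comp e.surjective
  haveI : CharZero (A ⧸ P) := charZero_of_injective_ringHom (π.comp C).injective
  choose y hy using fun l : Fin d => hπ (g (X l))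
  obtain ⟨f, hf, hind⟩ := exists_rank_of_bound (k := K) π hπ (ι := ULift.{u} (Fin n)) (κ := ULift.{u} (Fin d))
    (fun i => pderiv K i.down) (fun l => y l.down) (h := t) (by simpa using htd) fun δ w hδ hkill => by
      have hδC : ∀ c, δ (g (C c)) = 0 := fun c => by
        rw [show g (C c) = π (C c) from hC c, hδ]
        exact Finset.sum_eq_zero fun i _ => by rw [pderiv_C, map_zero, mul_zero]
      have hδg : ∀ z, δ (g z) = 0 := fun z => derivation_image_eq_zero g hX δ z fun E =>
        derivation_image_prod_eq_zero g δ _ E (hδC _) fun l _ => by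
          have h0 : δ (g (X l)) = 0 := hy l ▸ hkill ⟨l⟩
          rw [δ.leibniz_pow, h0, smul_zero, smul_zero]
      funext i
      have h1 := hδ (X i.down)
      rw [derivation_eq_zero_of_charZero g hinj hfin.to_isIntegral δ hδg, Finset.sum_eq_single i, pderiv_X_self,
        map_one, mul_one] at h1
      · exact h1.symm
      · intro j _ hj
        rw [pderiv_X_of_ne (fun h => hj (ULift.down_injective h.symm)), map_zero, mul_zero]
      · exact fun hi => absurd (Finset.mem_univ i) hi
  let D : Fin n → Derivation k A A := fun i => Derivation.mk'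
    { toFun := fun a => e (pderiv K i (e.symm a))
      map_add' := fun a b => by simp only [map_add]
      map_smul' := fun c a => by
        rw [Algebra.smul_def, map_mul, ← he c, e.symm_apply_apply, Derivation.leibniz, pderiv_C, smul_zero, add_zero,
          smul_eq_mul, map_mul, RingHom.id_apply, Algebra.smul_def, he c] }
    fun a b => by
      show e (pderiv K i (e.symm (a * b))) = a • e (pderiv K i (e.symm b)) + b • e (pderiv K i (e.symm a))
      rw [map_mul, Derivation.leibniz, smul_eq_mul, smul_eq_mul, map_add, map_mul, map_mul, e.apply_symm_apply,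
        e.apply_symm_apply]
      rfl
  refine ⟨t, fun i => D i.down, fun j => e (f j), fun j => Ideal.Quotient.eq_zero_iff_mem.mp (hf j), ht.le, ?_⟩
  rw [linearIndependent_iff_forall _ Ideal.Quotient.mk_surjective]
  intro a ha j
  have h2 := (linearIndependent_iff_forall π hπ _).mp hind (fun j => e.symm (a j)) (fun i => by
    rw [← ha i, map_sum, map_sum]
    refine Finset.sum_congr rfl fun j _ => ?_
    rw [map_mul, map_mul]
    show Ideal.Quotient.mk P (e (e.symm (a j))) * _ = _ * Ideal.Quotient.mk P (e (pderiv K i.down (e.symm (e (f j)))))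
    rw [e.apply_symm_apply, e.symm_apply_apply]
    rfl) j
  rwa [show π (e.symm (a j)) = Ideal.Quotient.mk P (a j) from congrArg _ (e.apply_symm_apply _)] at h2

end Groth.Ega41Jac
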