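import Groth.Agent.Ega41Jac.Localization
import Mathlib.LinearAlgebra.Matrix.Adjugate
import Mathlib.RingTheory.Nakayama
import Mathlib.RingTheory.Localization.AtPrime.Basic

/-! Zariski's Jacobian criterion: formal smoothness at a prime in terms of derivations. -/

universe u

namespace Groth.Ega41Jac

open Groth.Ega41Adic TensorProduct Algebra

variable {A B : Type u} [CommRing A] [CommRing B] [Algebra A B] {J q : Ideal B} [q.IsPrime]

theorem span_range_comp_algebraMap {m : ℕ} (f : Fin m → B) :
    Ideal.span (Set.range fun i => algebraMap B (Localization.AtPrime q) (f i)) =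
      (Ideal.span (Set.range f)).map (algebraMap B (Localization.AtPrime q)) := by
  rw [Ideal.map_span, ← Set.range_comp]
  rfl

/-- In a minimal generating family of a finitely generated ideal of a local ring, coefficients of relations lie in
the maximal ideal. -/
theorem mem_maximalIdeal_of_minimal {L : Type*} [CommRing L] [IsLocalRing L] {n : ℕ} {I : Ideal L} (hI : I.FG)
    (v : Fin (n + 1) → L) (hv : Ideal.span (Set.range v) = I)
    (hmin : ∀ l : Fin (n + 1), Ideal.span (Set.range (v ∘ l.succAbove)) ≠ I)
    (c : Fin (n + 1) → L) (hc : ∑ i, c i * v i ∈ IsLocalRing.maximalIdeal L • I) (l : Fin (n + 1)) :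
    c l ∈ IsLocalRing.maximalIdeal L := by
  by_contra hu
  rw [IsLocalRing.notMem_maximalIdeal] at hu
  refine hmin l (le_antisymm ?_ ?_)
  · rw [← hv]
    exact Ideal.span_mono (Set.range_comp_subset_range _ _)
  · refine Submodule.le_of_le_smul_of_le_jacobson_bot hI (IsLocalRing.jacobson_eq_maximalIdeal ⊥ bot_ne_top).ge ?_
    set Nsup := Ideal.span (Set.range (v ∘ l.succAbove)) ⊔ IsLocalRing.maximalIdeal L • I with hN
    conv_lhs => rw [← hv]
    rw [Ideal.span_le]
    rintro _ ⟨i, rfl⟩
    have hoth : ∀ j : Fin n, v (l.succAbove j) ∈ Nsup := fun j =>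
      Submodule.mem_sup_left (Ideal.subset_span ⟨j, rfl⟩)
    rcases Fin.eq_self_or_eq_succAbove l i with rfl | ⟨j, rfl⟩
    · have h1 : c i * v i ∈ Nsup := by
        have h2 : ∑ j, c j * v j ∈ Nsup := Submodule.mem_sup_right hc
        rw [Fin.sum_univ_succAbove _ i] at h2
        exact (Submodule.add_mem_iff_left _ (sum_mem fun j _ => Ideal.mul_mem_left _ _ (hoth j))).mp h2
      exact (Ideal.unit_mul_mem_iff_mem _ hu).mp h1
    · exact hoth j

theorem cotangent_mk_congr {P : Algebra.Extension.{u} A (B ⧸ J)} (x y : P.ker)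
    (h : Algebra.Extension.Cotangent.mk x = Algebra.Extension.Cotangent.mk y) :
    (x : P.Ring) - y ∈ P.ker ^ 2 :=
  (Ideal.toCotangent_eq _).mp (congrArg Algebra.Extension.Cotangent.val h)

variable [IsNoetherianRing B] [Algebra.FormallySmooth A B]

/-- Zariski's Jacobian criterion. -/
theorem formallySmooth_localization_iff_exists_det (hJq : J ≤ q) [(q.map (Ideal.Quotient.mk J)).IsPrime] :
    Algebra.FormallySmooth A (Localization.AtPrime (q.map (Ideal.Quotient.mk J))) ↔
      ∃ (m : ℕ) (f : Fin m → B) (D : Fin m → Derivation A B B),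
        (∀ i, f i ∈ J) ∧
        J.map (algebraMap B (Localization.AtPrime q)) =
          Ideal.span (Set.range fun i => algebraMap B (Localization.AtPrime q) (f i)) ∧
        Matrix.det (Matrix.of fun i j => D j (f i)) ∉ q := by
  classical
  let P := extOfSurjective (A := A) (B := B) (C := B ⧸ J) Ideal.Quotient.mk_surjective
  haveI : Algebra.FormallySmooth A P.Ring := inferInstanceAs (Algebra.FormallySmooth A B)
  haveI : Module.Finite B (RingHom.ker (algebraMap B (B ⧸ J))).Cotangent :=
    Module.Finite.of_surjective _ (Ideal.toCotangent_surjective _)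
  haveI : Module.Finite (B ⧸ J) P.Cotangent := finite_cotangent Ideal.Quotient.mk_surjective
  have hker : P.ker = J := Ideal.mk_ker
  have hmem : ∀ x : B, Ideal.Quotient.mk J x ∈ q.map (Ideal.Quotient.mk J) ↔ x ∈ q :=
    fun x => Ideal.mem_quotient_iff_mem hJq
  rw [formallySmooth_iff_splitBy P (q.map (Ideal.Quotient.mk J)).primeCompl]
  constructor
  · rintro ⟨a, ha, w, hw⟩
    obtain ⟨a, rfl⟩ := Ideal.Quotient.mk_surjective a
    have haq : a ∉ q := fun h => ha ((hmem a).mpr h)
    let L := Localization.AtPrime q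
    let Q : ℕ → Prop := fun m => ∃ f : Fin m → B, (∀ i, f i ∈ J) ∧
      J.map (algebraMap B L) = Ideal.span (Set.range fun i => algebraMap B L (f i))
    have hQ : ∃ m, Q m := by
      obtain ⟨G, hG⟩ := IsNoetherian.noetherian J
      refine ⟨G.card, fun i => (G.equivFin.symm i).1, fun i => hG.le (Submodule.subset_span (G.equivFin.symm i).2), ?_⟩
      rw [span_range_comp_algebraMap]
      congr 1
      rw [← hG]
      congr 1
      ext x
      exact ⟨fun hx => ⟨G.equivFin ⟨x, hx⟩, by simp⟩, by rintro ⟨i, rfl⟩; exact (G.equivFin.symm i).2⟩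
    have hfQ : Q (Nat.find hQ) := Nat.find_spec hQ
    have hmin : ∀ n < Nat.find hQ, ¬ Q n := fun n hn => Nat.find_min hQ hn
    generalize Nat.find hQ = m at hfQ hmin
    obtain ⟨f, hfJ, hspan⟩ := hfQ
    -- coordinates
    obtain ⟨ι, hι⟩ := Module.projective_def'.mp (inferInstance : Module.Projective B Ω[B⁄A])
    let S : Finset Ω[B⁄A] := Finset.univ.biUnion fun i => (ι (KaehlerDifferential.D A B (f i))).support
    choose y hy using fun k : Ω[B⁄A] => Algebra.Extension.Cotangent.mk_surjective (P := P) (w (1 ⊗ₜ k))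
    have hy' : ∀ k, (y k : B) ∈ J := fun k => hker.le (y k).2
    have hts : ∀ k, ∃ t ∈ q.primeCompl, t * (y k : B) ∈ Ideal.span (Set.range f) := fun k => by
      rw [← IsLocalization.algebraMap_mem_map_algebraMap_iff q.primeCompl L, ← span_range_comp_algebraMap,
        ← hspan]
      exact Ideal.mem_map_of_mem _ (hy' k)
    choose t ht hty using hts
    let T : B := ∏ k ∈ S, t k
    have hT : T ∉ q := show T ∈ q.primeCompl from prod_mem fun k _ => ht k
    have hTy : ∀ k, k ∈ S → ∃ b : Fin m → B, ∑ l, b l * f l = T * (y k : B) := fun k hk => by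
      refine Ideal.mem_span_range_iff_exists_fun.mp ?_
      rw [show T = (∏ j ∈ S.erase k, t j) * t k from (Finset.prod_erase_mul _ _ hk).symm, mul_assoc]
      exact Ideal.mul_mem_left _ _ (hty k)
    choose! b hb using hTy
    let Dk : Ω[B⁄A] → Derivation A B B := fun k =>
      ((Finsupp.lapply k ∘ₗ ι) : Ω[B⁄A] →ₗ[B] B).compDer (KaehlerDifferential.D A B)
    let D : Fin m → Derivation A B B := fun l => ∑ k ∈ S, b k l • Dk k
    have hD : ∀ i l, D l (f i) = ∑ k ∈ S, b k l * ι (KaehlerDifferential.D A B (f i)) k := fun i l => by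
      simp only [D]
      rw [← Derivation.coeFnAddMonoidHom_apply, map_sum, Finset.sum_apply]
      rfl
    -- the congruence
    have key : ∀ i, ∑ l, D l (f i) * f l - T * a * f i ∈ J ^ 2 := fun i => by
      have h1 := LinearMap.congr_fun hw (Algebra.Extension.Cotangent.mk (P := P) ⟨f i, hker.ge (hfJ i)⟩)
      rw [LinearMap.comp_apply, Algebra.Extension.cotangentComplex_mk] at h1
      have hd : ∑ k ∈ S, ι (KaehlerDifferential.D A B (f i)) k • k = KaehlerDifferential.D A B (f i) := by
        conv_rhs => rw [← LinearMap.id_apply (R := B) (KaehlerDifferential.D A B (f i)), ← hι,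
          LinearMap.comp_apply, Finsupp.linearCombination_apply,
          Finsupp.sum_of_support_subset _ (show _ ⊆ S from Finset.subset_biUnion_of_mem
            (fun i => (ι (KaehlerDifferential.D A B (f i))).support) (Finset.mem_univ i)) _
            (fun i _ => zero_smul B (id i))]
        rfl
      have h2 : w (1 ⊗ₜ KaehlerDifferential.D A B (f i)) = Algebra.Extension.Cotangent.mk
          (∑ k ∈ S, ι (KaehlerDifferential.D A B (f i)) k • y k) := by
        rw [map_sum]
        conv_lhs => rw [← hd, TensorProduct.tmul_sum, map_sum]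
        refine Finset.sum_congr rfl fun k _ => ?_
        rw [map_smul, TensorProduct.tmul_smul, w.map_smul_of_tower, hy]
      have h3 : (Ideal.Quotient.mk J a • LinearMap.id : P.Cotangent →ₗ[B ⧸ J] P.Cotangent)
          (Algebra.Extension.Cotangent.mk (P := P) ⟨f i, hker.ge (hfJ i)⟩) =
          Algebra.Extension.Cotangent.mk (P := P) (a • ⟨f i, hker.ge (hfJ i)⟩) := by
        rw [map_smul, LinearMap.smul_apply, LinearMap.id_apply]
        exact algebraMap_smul (B ⧸ J) a _
      have h5 := cotangent_mk_congr _ _ ((h2.symm.trans h1).trans h3)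
      have h6 := Ideal.mul_mem_left _ T (Ideal.pow_right_mono hker.le 2 h5)
      convert h6 using 1
      simp only [Submodule.coe_sum, Submodule.coe_smul, smul_eq_mul, hD, Finset.sum_mul, mul_sub,
        Finset.mul_sum]
      rw [Finset.sum_comm]
      congr 1
      · refine Finset.sum_congr rfl fun k hk => ?_
        rw [mul_left_comm, ← hb k hk, Finset.mul_sum]
        exact Finset.sum_congr rfl fun l _ => by ring
      · ring
    refine ⟨m, f, D, hfJ, hspan, ?_⟩
    obtain _ | n := m
    · simpa using fun h => (Ideal.IsPrime.ne_top ‹q.IsPrime›) ((Ideal.eq_top_iff_one q).mpr h)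
    have hcong : ∀ i l, D l (f i) - (if l = i then T * a else 0) ∈ q := fun i l => by
      rw [← IsLocalization.AtPrime.to_map_mem_maximal_iff L q]
      refine mem_maximalIdeal_of_minimal (Ideal.FG.map (IsNoetherian.noetherian J) (algebraMap B L))
        (fun j => algebraMap B L (f j)) hspan.symm
        (fun j hj => hmin n n.lt_succ_self ⟨f ∘ j.succAbove, fun _ => hfJ _, hj.symm⟩)
        (fun l => algebraMap B L (D l (f i) - (if l = i then T * a else 0))) ?_ l
      have h7 : ∑ l, (D l (f i) - (if l = i then T * a else 0)) * f l = ∑ l, D l (f i) * f l - T * a * f i := by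
        simp [sub_mul, Finset.sum_sub_distrib, ite_mul]
      have h8 : algebraMap B L (∑ l, (D l (f i) - (if l = i then T * a else 0)) * f l) ∈
          (J ^ 2).map (algebraMap B L) := Ideal.mem_map_of_mem _ (h7 ▸ key i)
      rw [map_sum, sq, Ideal.map_mul] at h8
      simp only [map_mul] at h8
      exact Ideal.mul_mono_left ((Ideal.map_mono hJq).trans (IsLocalization.AtPrime.map_eq_maximalIdeal q L).le) h8
    intro hdet
    have hmat : (Matrix.of fun i j => D j (f i)).map (Ideal.Quotient.mk q) =
        (Ideal.Quotient.mk q (T * a)) • (1 : Matrix (Fin (n + 1)) (Fin (n + 1)) (B ⧸ q)) := by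
      ext i l
      rw [Matrix.map_apply, Matrix.of_apply, Ideal.Quotient.mk_eq_mk_iff_sub_mem _ _ |>.mpr (hcong i l)]
      by_cases h : l = i
      · simp [h, Matrix.one_apply]
      · simp [h, Matrix.one_apply, Ne.symm h]
    have h0 := (RingHom.map_det (Ideal.Quotient.mk q) _).symm.trans (Ideal.Quotient.eq_zero_iff_mem.mpr hdet)
    rw [RingHom.mapMatrix_apply, hmat, Matrix.det_smul, Matrix.det_one, mul_one, ← map_pow,
      Ideal.Quotient.eq_zero_iff_mem] at h0
    exact (‹q.IsPrime›.mem_or_mem (‹q.IsPrime›.mem_of_pow_mem _ h0)).elim hT haq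
  · rintro ⟨m, f, D, hfJ, hspan, hdet⟩
    let M : Matrix (Fin m) (Fin m) B := Matrix.of fun i j => D j (f i)
    let e : Fin m → P.Cotangent := fun i => Algebra.Extension.Cotangent.mk ⟨f i, hker.ge (hfJ i)⟩
    let φ : Ω[B⁄A] →ₗ[B] P.Cotangent :=
      ∑ i, ∑ j, M.adjugate j i • (LinearMap.toSpanSingleton B P.Cotangent (e i) ∘ₗ (D j).liftKaehlerDifferential)
    let w := φ.liftBaseChange (B ⧸ J)
    have hφ : ∀ l, φ (KaehlerDifferential.D A B (f l)) = M.det • e l := fun l => by
      simp only [φ, LinearMap.coe_sum, Finset.sum_apply, LinearMap.smul_apply, LinearMap.comp_apply,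
        Derivation.liftKaehlerDifferential_comp_D, LinearMap.toSpanSingleton_apply, smul_smul, ← Finset.sum_smul]
      rw [Finset.sum_eq_single l]
      · congr 1
        have := congrFun₂ (Matrix.mul_adjugate M) l l
        simpa [Matrix.mul_apply, M, mul_comm] using this
      · intro i _ hil
        have := congrFun₂ (Matrix.mul_adjugate M) l i
        simp only [Matrix.mul_apply, M, Matrix.of_apply, Matrix.smul_apply, Matrix.one_apply_ne hil.symm,
          smul_zero] at this
        convert zero_smul B (e i)
        rw [← this]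
        exact Finset.sum_congr rfl fun j _ => mul_comm _ _
      · simp
    obtain ⟨G, hG⟩ := (Module.Finite.fg_top : (⊤ : Submodule B P.ker).FG)
    have hts : ∀ x : P.ker, ∃ t ∈ q.primeCompl, t * (x : B) ∈ Ideal.span (Set.range f) := fun x => by
      rw [← IsLocalization.algebraMap_mem_map_algebraMap_iff q.primeCompl (Localization.AtPrime q),
        ← span_range_comp_algebraMap, ← hspan]
      exact Ideal.mem_map_of_mem _ (hker.le x.2)
    choose t ht htx using hts
    let T : B := ∏ x ∈ G, t x
    have hT : T ∈ q.primeCompl := prod_mem fun x _ => ht x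
    let a : B := T * M.det
    refine ⟨Ideal.Quotient.mk J a, fun h => (‹q.IsPrime›.mem_or_mem ((hmem a).mp h)).elim hT hdet,
      Ideal.Quotient.mk J T • w, LinearMap.ext fun c => ?_⟩
    obtain ⟨x, rfl⟩ := Algebra.Extension.Cotangent.mk_surjective c
    let F : P.ker →ₗ[B] P.Cotangent := (w ∘ₗ P.cotangentComplex).restrictScalars B ∘ₗ
      (Algebra.Extension.Cotangent.mk (P := P) : P.ker →ₗ[B] P.Cotangent)
    have hF : ∀ i, F ⟨f i, hker.ge (hfJ i)⟩ = M.det • e i := fun i => by
      show w (P.cotangentComplex (Algebra.Extension.Cotangent.mk _)) = _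
      rw [Algebra.Extension.cotangentComplex_mk]
      exact (LinearMap.liftBaseChange_tmul _ _ _ _).trans (by rw [one_smul]; exact hφ i)
    have hFT : T • F = a • (Algebra.Extension.Cotangent.mk (P := P) : P.ker →ₗ[B] P.Cotangent) := LinearMap.ext_on hG fun x hx => by
      have hsp : t x • x ∈ Submodule.span B (Set.range fun i => (⟨f i, hker.ge (hfJ i)⟩ : P.ker)) := by
        obtain ⟨c, hc⟩ := Ideal.mem_span_range_iff_exists_fun.mp (htx x)
        exact (Submodule.mem_span_range_iff_exists_fun _).mpr ⟨c, Subtype.ext (by simpa using hc)⟩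
      have heq : F (t x • x) = M.det • Algebra.Extension.Cotangent.mk (t x • x) := by
        have hh : Set.EqOn F (M.det • Algebra.Extension.Cotangent.mk : P.ker →ₗ[B] P.Cotangent)
            (Submodule.span B (Set.range fun i => (⟨f i, hker.ge (hfJ i)⟩ : P.ker))) :=
          LinearMap.eqOn_span' (by rintro _ ⟨i, rfl⟩; rw [LinearMap.smul_apply]; exact hF i)
        exact hh hsp
      rw [LinearMap.smul_apply, LinearMap.smul_apply,
        show T = (∏ j ∈ G.erase x, t j) * t x from (Finset.prod_erase_mul _ _ hx).symm,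
        show a = (∏ j ∈ G.erase x, t j) * (M.det * t x) by
          simp only [a, show T = (∏ j ∈ G.erase x, t j) * t x from (Finset.prod_erase_mul _ _ hx).symm]; ring,
        mul_smul, mul_smul, mul_smul, ← map_smul, heq, map_smul]
    have h9 := LinearMap.congr_fun hFT x
    rw [LinearMap.smul_apply, LinearMap.smul_apply] at h9
    rw [LinearMap.smul_comp, LinearMap.smul_apply, LinearMap.smul_apply, LinearMap.id_apply]
    exact (algebraMap_smul (B ⧸ J) T _).trans (h9.trans (algebraMap_smul (B ⧸ J) a _).symm)

end Groth.Ega41Jac
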